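import Mathlib
import Cfsg.Prelude.Def_Blocks
import Cfsg.Agent.S0907
import Cfsg.Agent.S0925
import Cfsg.Agent.S0947
import Cfsg.Agent.Lib.helper3.Irr13
import Cfsg.Agent.Lib.helper3.PrincSection2

set_option autoImplicit false
set_option linter.style.haveILetI false
set_option linter.unusedSectionVars false
set_option linter.unusedVariables false

/-!
# Homocyclic Sylow 2-subgroups of rank two: the block-theoretic input
-/

namespace Cfsg.Agent.H2.Hom2

open Cfsg Cfsg.Agent.Lib.helper3.Block Cfsg.Agent.Lib.helper3.Irr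
open Cfsg.Agent.Lib.helper3.CharBasic
open scoped ComplexConjugate

universe u

variable {G : Type u} [Group G] [Finite G] {M : Ideal AlgInt} (hM : IsPModular 2 M)
  (P : Sylow 2 G)

theorem isPBlock_principal : IsPBlock M (principalBlock M G) :=
  ⟨⟨fun _ => 1, isIrrCharacter_one⟩, rfl⟩

include hM in
/-- (4c): weak orthogonality between `1` and a nonidentity `2`-element. -/
theorem ker_one_right (u : G) (hu : u ∈ (P : Subgroup G)) (hu1 : u ≠ 1) :
    ∑ᶠ ζ ∈ principalBlock M G, (ζ : G → ℂ) 1 * conj ((ζ : G → ℂ) u) = 0 := by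
  haveI : Fact (Nat.Prime 2) := ⟨Nat.prime_two⟩
  apply Cfsg.Agent.S0907.result 2 M hM _ isPBlock_principal 1 u
  · rw [orderOf_one]; norm_num
  · obtain ⟨j, hj⟩ := (IsPGroup.iff_orderOf.mp P.2) ⟨u, hu⟩
    rw [Subgroup.orderOf_mk] at hj
    rw [hj]
    apply dvd_pow_self
    rintro rfl
    rw [pow_zero, orderOf_eq_one_iff] at hj
    exact hu1 hj

include hM in
/-- (4b), nonconjugate case. -/
theorem ker_nonconj (u u' : G) (hu : u ∈ (P : Subgroup G)) (hu' : u' ∈ (P : Subgroup G))
    (hn : ¬ IsConj u u') :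
    ∑ᶠ ζ ∈ principalBlock M G, (ζ : G → ℂ) u * conj ((ζ : G → ℂ) u') = 0 := by
  haveI : Fact (Nat.Prime 2) := ⟨Nat.prime_two⟩
  have hpp : ∀ w : G, w ∈ (P : Subgroup G) → IsPPart 2 w w := by
    intro w hw
    refine ⟨1, mul_one w, Commute.one_right w, ?_, ?_⟩
    · obtain ⟨j, hj⟩ := (IsPGroup.iff_orderOf.mp P.2) ⟨w, hw⟩
      rw [Subgroup.orderOf_mk] at hj
      exact ⟨j, hj⟩
    · rw [orderOf_one]; norm_num
  have h := (Cfsg.Agent.S0925.result 2 M hM).2 u u' u u' (hpp u hu) (hpp u' hu') hn _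
    (isPBlock_principal (M := M) (G := G))
  rw [← h]
  apply finsum_mem_congr rfl
  intro ζ _
  rw [isCharacter_apply_inv (isCharacter_of_isIrrCharacter ζ.2)]

include hM in
/-- (4b), conjugate case. -/
theorem ker_conj (hPc : ∀ x ∈ (P : Subgroup G), ∀ y ∈ (P : Subgroup G), x * y = y * x)
    (u u' : G) (hu : u ∈ (P : Subgroup G)) (hu1 : u ≠ 1) (hc : IsConj u u')
    (hcore : ∃ k : ℕ, (Cfsg.pPrimeCore 2 ↥(Subgroup.centralizer ({u} : Set G))).index = 2 ^ k) :
    ∑ᶠ ζ ∈ principalBlock M G, (ζ : G → ℂ) u * conj ((ζ : G → ℂ) u') =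
      (Nat.card (P : Subgroup G) : ℂ) := by
  classical
  letI : Fintype G := Fintype.ofFinite G
  haveI : Fact (Nat.Prime 2) := ⟨Nat.prime_two⟩
  obtain ⟨j, hj⟩ := (IsPGroup.iff_orderOf.mp P.2) ⟨u, hu⟩
  rw [Subgroup.orderOf_mk] at hj
  have h := (Cfsg.Agent.S0947.result 2 M hM u ⟨j, hj⟩ hu1 1 (by rw [orderOf_one]; norm_num)).2
    hcore
  -- the class function property
  have hcf : ∀ ζ : IrrCharacter G, (ζ : G → ℂ) u' = (ζ : G → ℂ) u := by
    intro ζ
    obtain ⟨c, hc'⟩ := isConj_iff.mp hc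
    rw [← hc']
    exact isClassFunction_of_isCharacter (isCharacter_of_isIrrCharacter ζ.2) u c
  -- the `2`-part of the order of the centralizer
  have hPH : (P : Subgroup G) ≤ Subgroup.centralizer ({u} : Set G) := by
    intro x hx
    rw [Subgroup.mem_centralizer_iff]
    intro y hy
    rw [Set.mem_singleton_iff] at hy
    subst hy
    exact hPc y hu x hx
  have hfac : (Nat.card (Subgroup.centralizer ({u} : Set G))).factorization 2 =
      (Nat.card G).factorization 2 := by
    apply le_antisymm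
    · exact (Nat.factorization_le_iff_dvd Nat.card_pos.ne' Nat.card_pos.ne').mpr
        (Subgroup.card_subgroup_dvd_card _) 2
    · have h1 : Nat.card (P : Subgroup G) ∣ Nat.card (Subgroup.centralizer ({u} : Set G)) :=
        Subgroup.card_dvd_of_le hPH
      rw [P.card_eq_multiplicity] at h1
      exact (Nat.Prime.pow_dvd_iff_le_factorization Nat.prime_two Nat.card_pos.ne').mp h1
  have hcardP : (2 ^ (Nat.card (Subgroup.centralizer ({u} : Set G))).factorization 2 : ℕ) =
      Nat.card (P : Subgroup G) := by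
    rw [hfac, P.card_eq_multiplicity]
  have h2 : (((∑ᶠ ζ ∈ principalBlock M G, ‖(ζ : G → ℂ) (u * ((1 : Subgroup.centralizer
      ({u} : Set G)) : G))‖ ^ 2 : ℝ)) : ℂ) = (Nat.card (P : Subgroup G) : ℂ) := by
    rw [h, hcardP]
    push_cast
    rfl
  rw [ofReal_finsum_mem_norm_sq (principalBlock M G)
    (fun ζ : IrrCharacter G => (ζ : G → ℂ) (u * ((1 : Subgroup.centralizer
      ({u} : Set G)) : G)))] at h2
  rw [← h2, finsum_mem_def, finsum_eq_sum_of_fintype]
  apply Finset.sum_congr rfl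
  intro ζ _
  by_cases hζ : ζ ∈ principalBlock M G
  · rw [Set.indicator_of_mem hζ, if_pos hζ, one_mul, hcf ζ]
    simp
  · rw [Set.indicator_of_notMem hζ, if_neg hζ, zero_mul]

end Cfsg.Agent.H2.Hom2
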