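import Mathlib
import Cfsg.Agent.Lib.helper3.NormTwo

set_option autoImplicit false
set_option linter.style.haveILetI false
set_option linter.unusedSectionVars false
set_option linter.unusedVariables false

/-!
# Integer vectors with a prescribed Gram matrix (for the homocyclic Sylow 2-subgroup theorem)
-/

namespace Cfsg.Agent.H2.Hom2

open Cfsg.Agent.Lib.helper3.Irr

variable {ι : Type*} [Fintype ι] [DecidableEq ι]

/-- The standard inner product of integer vectors. -/
def ip (x y : ι → ℤ) : ℤ := ∑ i, x i * y i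

theorem ip_comm (x y : ι → ℤ) : ip x y = ip y x := by
  unfold ip
  exact Finset.sum_congr rfl (fun i _ => mul_comm _ _)

theorem ip_sub_left (x y z : ι → ℤ) : ip (x - y) z = ip x z - ip y z := by
  unfold ip
  rw [← Finset.sum_sub_distrib]
  exact Finset.sum_congr rfl (fun i _ => by rw [Pi.sub_apply]; ring)

theorem ip_sub_right (x y z : ι → ℤ) : ip x (y - z) = ip x y - ip x z := by
  rw [ip_comm, ip_sub_left, ip_comm y, ip_comm z]

theorem ip_neg_neg (x y : ι → ℤ) : ip (-x) (-y) = ip x y := by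
  unfold ip
  exact Finset.sum_congr rfl (fun i _ => by rw [Pi.neg_apply, Pi.neg_apply]; ring)

theorem ip_neg_right (x y : ι → ℤ) : ip x (-y) = - ip x y := by
  unfold ip
  rw [← Finset.sum_neg_distrib]
  exact Finset.sum_congr rfl (fun i _ => by rw [Pi.neg_apply]; ring)

theorem eq_zero_of_ip_self (x : ι → ℤ) (h : ip x x = 0) : x = 0 := by
  unfold ip at h
  funext i
  have h1 : ∀ j ∈ (Finset.univ : Finset ι), 0 ≤ x j * x j := fun j _ => mul_self_nonneg _
  have h2 := (Finset.sum_eq_zero_iff_of_nonneg h1).mp h i (Finset.mem_univ i)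
  exact mul_self_eq_zero.mp h2

/-- The indicator of a coordinate. -/
def ind (A : ι) (i : ι) : ℤ := if i = A then 1 else 0

theorem ind_self (A : ι) : ind A A = 1 := by unfold ind; rw [if_pos rfl]

theorem ind_ne {A i : ι} (h : i ≠ A) : ind A i = 0 := by unfold ind; rw [if_neg h]

theorem ind_nonneg (A i : ι) : 0 ≤ ind A i := by unfold ind; split_ifs <;> norm_num

theorem ind_le_one (A i : ι) : ind A i ≤ 1 := by unfold ind; split_ifs <;> norm_num

theorem ind_eq_one_iff (A i : ι) : ind A i = 1 ↔ i = A := by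
  unfold ind; split_ifs with h <;> simp [h]

theorem ip_ind_sub_left (A B : ι) (u x : ι → ℤ) (hu : ∀ i, u i = ind A i - ind B i) :
    ip u x = x A - x B := by
  unfold ip
  have : ∀ i, u i * x i = ind A i * x i - ind B i * x i := fun i => by rw [hu]; ring
  simp only [this]
  rw [Finset.sum_sub_distrib]
  unfold ind
  simp only [ite_mul, one_mul, zero_mul]
  rw [Finset.sum_ite_eq' Finset.univ A, Finset.sum_ite_eq' Finset.univ B]
  simp

/-- A vector of norm two orthogonal to a positive vector is a difference of two coordinate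
vectors. -/
theorem root_of_norm_two (d x : ι → ℤ) (hd : ∀ i, 0 < d i) (h2 : ip x x = 2) (h0 : ip d x = 0) :
    ∃ A B : ι, A ≠ B ∧ ∀ i, x i = ind A i - ind B i := by
  have hsq : ∑ i, x i ^ 2 = 2 := by
    rw [← h2]
    unfold ip
    exact Finset.sum_congr rfl (fun i _ => by ring)
  obtain ⟨a, b, hab, ha, hb, hc⟩ := int_sq_sum_two x hsq
  have hsum : ip d x = d a * x a + d b * x b := by
    unfold ip
    apply Finset.sum_eq_add a b hab
    · intro c _ hcab
      rw [hc c hcab.1 hcab.2, mul_zero]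
    · intro h; exact absurd (Finset.mem_univ a) h
    · intro h; exact absurd (Finset.mem_univ b) h
  rw [hsum] at h0
  have hda := hd a
  have hdb := hd b
  rcases ha with ha | ha <;> rcases hb with hb | hb
  · rw [ha, hb] at h0; omega
  · refine ⟨a, b, hab, ?_⟩
    intro i
    by_cases hia : i = a
    · subst hia
      rw [ha, ind_self, ind_ne hab]; norm_num
    · by_cases hib : i = b
      · subst hib
        rw [hb, ind_self, ind_ne hia]; norm_num
      · rw [hc i hia hib, ind_ne hia, ind_ne hib]; norm_num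
  · refine ⟨b, a, hab.symm, ?_⟩
    intro i
    by_cases hia : i = a
    · subst hia
      rw [ha, ind_self, ind_ne hab]; norm_num
    · by_cases hib : i = b
      · subst hib
        rw [hb, ind_self, ind_ne hia]; norm_num
      · rw [hc i hia hib, ind_ne hia, ind_ne hib]; norm_num
  · rw [ha, hb] at h0; omega

section gram

variable {Λ : Type*} (r : Λ → Λ → Prop) [DecidableRel r] (v : Λ → ι → ℤ) (d : ι → ℤ) (c : ℤ)

/-- The Gram hypothesis on a family of integer vectors. -/
def GramHyp : Prop :=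
  (∀ l m, ip (v l) (v m) = c + (if r l m then 1 else 0)) ∧ (∀ i, 0 < d i) ∧
    (∀ l m, ip d (v l) = ip d (v m)) ∧ (∀ l, r l l) ∧ (∀ l m, r l m → r m l)

variable {r v d c}

theorem GramHyp.neg (h : GramHyp r v d c) : GramHyp r (fun l => - v l) d c := by
  obtain ⟨h1, h2, h3, h4, h5⟩ := h
  refine ⟨fun l m => by rw [ip_neg_neg]; exact h1 l m, h2, fun l m => ?_, h4, h5⟩
  rw [ip_neg_right, ip_neg_right, h3 l m]

theorem GramHyp.eq_of_r (h : GramHyp r v d c) {l m : Λ} (hlm : r l m) : v l = v m := by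
  obtain ⟨h1, h2, h3, h4, h5⟩ := h
  have : ip (v l - v m) (v l - v m) = 0 := by
    rw [ip_sub_left, ip_sub_right, ip_sub_right, h1, h1, h1, h1, if_pos (h4 l), if_pos (h4 m),
      if_pos hlm, if_pos (h5 l m hlm)]
    ring
  have h0 := eq_zero_of_ip_self _ this
  exact sub_eq_zero.mp h0

theorem GramHyp.r_of_eq (h : GramHyp r v d c) {l m : Λ} (hlm : v l = v m) : r l m := by
  obtain ⟨h1, h2, h3, h4, h5⟩ := h
  by_contra hn
  have e1 := h1 l m
  rw [hlm, h1 m m, if_pos (h4 m), if_neg hn] at e1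
  omega

theorem GramHyp.root (h : GramHyp r v d c) {l m : Λ} (hlm : ¬ r l m) :
    ∃ A B : ι, A ≠ B ∧ ∀ i, v l i - v m i = ind A i - ind B i := by
  obtain ⟨h1, h2, h3, h4, h5⟩ := h
  have hml : ¬ r m l := fun h => hlm (h5 m l h)
  have e2 : ip (v l - v m) (v l - v m) = 2 := by
    rw [ip_sub_left, ip_sub_right, ip_sub_right, h1, h1, h1, h1, if_pos (h4 l), if_pos (h4 m),
      if_neg hlm, if_neg hml]
    ring
  have e0 : ip d (v l - v m) = 0 := by
    rw [ip_sub_right, h3 l m, sub_self]
  obtain ⟨A, B, hAB, hx⟩ := root_of_norm_two d (v l - v m) h2 e2 e0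
  exact ⟨A, B, hAB, fun i => by rw [← hx i, Pi.sub_apply]⟩

theorem GramHyp.ip_diff (h : GramHyp r v d c) {l m n : Λ} (hlm : ¬ r l m) (hln : ¬ r l n)
    (hmn : ¬ r m n) : ip (v l - v m) (v l - v n) = 1 := by
  obtain ⟨h1, h2, h3, h4, h5⟩ := h
  rw [ip_sub_left, ip_sub_right, ip_sub_right, h1, h1, h1, h1, if_pos (h4 l), if_neg hln,
    if_neg (fun h => hlm (h5 m l h)), if_neg hmn]
  ring

/-- The positive type: all differences from a base vector share the positive coordinate. -/
theorem GramHyp.type_pos (h : GramHyp r v d c) {l1 l2 l3 : Λ} (h12 : ¬ r l1 l2) (h13 : ¬ r l1 l3)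
    (h23 : ¬ r l2 l3) {A B C : ι} (hAB : A ≠ B) (hAC : A ≠ C)
    (hu : ∀ i, v l1 i - v l2 i = ind A i - ind B i)
    (hu' : ∀ i, v l1 i - v l3 i = ind A i - ind C i) (m : Λ) (h1m : ¬ r l1 m) :
    ∃ Bm : ι, Bm ≠ A ∧ ∀ i, v l1 i - v m i = ind A i - ind Bm i := by
  have hBC : B ≠ C := by
    intro hBC
    apply h23
    apply h.r_of_eq
    funext i
    have e1 := hu i
    have e2 := hu' i
    rw [hBC] at e1
    omega
  by_cases h2m : r l2 m
  · refine ⟨B, hAB.symm, fun i => ?_⟩
    rw [← h.eq_of_r h2m]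
    exact hu i
  by_cases h3m : r l3 m
  · refine ⟨C, hAC.symm, fun i => ?_⟩
    rw [← h.eq_of_r h3m]
    exact hu' i
  obtain ⟨A', B', hA'B', hx⟩ := h.root h1m
  have e1 : ip (v l1 - v l2) (v l1 - v m) = 1 := h.ip_diff h12 h1m h2m
  have e2 : ip (v l1 - v l3) (v l1 - v m) = 1 := h.ip_diff h13 h1m h3m
  rw [ip_ind_sub_left A B _ _ (fun i => by rw [Pi.sub_apply]; exact hu i)] at e1
  rw [ip_ind_sub_left A C _ _ (fun i => by rw [Pi.sub_apply]; exact hu' i)] at e2
  simp only [Pi.sub_apply] at e1 e2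
  rw [hx A, hx B] at e1
  rw [hx A, hx C] at e2
  have hA'A : A' = A := by
    by_contra hne
    have z1 : ind A' A = 0 := ind_ne (fun h => hne h.symm)
    rw [z1] at e1 e2
    have n1 := ind_nonneg B' A
    have n2 := ind_nonneg A' B
    have n3 := ind_nonneg A' C
    have l1 := ind_le_one B' B
    have l2 := ind_le_one B' C
    have hB : ind B' B = 1 := by omega
    have hC : ind B' C = 1 := by omega
    rw [ind_eq_one_iff] at hB hC
    exact hBC (hB.trans hC.symm)
  subst hA'A
  exact ⟨B', hA'B'.symm, hx⟩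

theorem GramHyp.structure_pos (h : GramHyp r v d c) {l1 l2 l3 : Λ} (h12 : ¬ r l1 l2)
    (h13 : ¬ r l1 l3) (h23 : ¬ r l2 l3) {A B C : ι} (hAB : A ≠ B) (hAC : A ≠ C)
    (hu : ∀ i, v l1 i - v l2 i = ind A i - ind B i)
    (hu' : ∀ i, v l1 i - v l3 i = ind A i - ind C i) :
    ∃ (δ : ι → ℤ) (X : Λ → ι), (∀ m i, v m i = δ i + ind (X m) i) ∧
      ∀ m n, X m = X n ↔ r m n := by
  classical
  have key := fun m (hm : ¬ r l1 m) => h.type_pos h12 h13 h23 hAB hAC hu hu' m hm
  let X : Λ → ι := fun m => if hm : r l1 m then A else Classical.choose (key m hm)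
  have hX : ∀ m i, v m i = (v l1 i - ind A i) + ind (X m) i := by
    intro m i
    by_cases hm : r l1 m
    · have : X m = A := dif_pos hm
      rw [this, ← h.eq_of_r hm]
      ring
    · have hXm : X m = Classical.choose (key m hm) := dif_neg hm
      have := (Classical.choose_spec (key m hm)).2 i
      rw [hXm]
      omega
  refine ⟨fun i => v l1 i - ind A i, X, hX, ?_⟩
  intro m n
  constructor
  · intro hmn
    apply h.r_of_eq
    funext i
    rw [hX m i, hX n i, hmn]
  · intro hmn
    have e := h.eq_of_r hmn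
    have e1 := congrFun e (X m)
    rw [hX m, hX n, ind_self] at e1
    have : ind (X n) (X m) = 1 := by omega
    exact (ind_eq_one_iff _ _).mp this

/-- The structure of a family of integer vectors with the Gram hypothesis and at least three
classes. -/
theorem GramHyp.structure (h : GramHyp r v d c) {l1 l2 l3 : Λ} (h12 : ¬ r l1 l2)
    (h13 : ¬ r l1 l3) (h23 : ¬ r l2 l3) :
    ∃ (ε : ℤ) (δ : ι → ℤ) (X : Λ → ι), (ε = 1 ∨ ε = -1) ∧
      (∀ m i, v m i = δ i + ε * ind (X m) i) ∧ ∀ m n, X m = X n ↔ r m n := by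
  obtain ⟨A, B, hAB, hu⟩ := h.root h12
  obtain ⟨A', C, hA'C, hu'⟩ := h.root h13
  by_cases hA : A' = A
  · subst hA
    obtain ⟨δ, X, h1, h2⟩ := h.structure_pos h12 h13 h23 hAB hA'C hu hu'
    exact ⟨1, δ, X, Or.inl rfl, fun m i => by rw [h1 m i, one_mul], h2⟩
  · -- the negative type
    have e1 : ip (v l1 - v l2) (v l1 - v l3) = 1 := h.ip_diff h12 h13 h23
    rw [ip_ind_sub_left A B _ _ (fun i => by rw [Pi.sub_apply]; exact hu i)] at e1
    simp only [Pi.sub_apply] at e1
    rw [hu' A, hu' B] at e1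
    have z1 : ind A' A = 0 := ind_ne (fun h => hA h.symm)
    rw [z1] at e1
    have n1 := ind_nonneg C A
    have n2 := ind_nonneg A' B
    have l1' := ind_le_one C B
    have hCB : ind C B = 1 := by omega
    have hCB' : B = C := (ind_eq_one_iff _ _).mp hCB
    subst hCB'
    have hneg := h.neg
    obtain ⟨δ, X, h1, h2⟩ := hneg.structure_pos (l1 := l1) (l2 := l2) (l3 := l3) h12 h13 h23
      (A := B) (B := A) (C := A') hAB.symm hA'C.symm
      (fun i => by
        have := hu i
        simp only [Pi.neg_apply]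
        omega)
      (fun i => by
        have := hu' i
        simp only [Pi.neg_apply]
        omega)
    refine ⟨-1, fun i => - δ i, X, Or.inr rfl, fun m i => ?_, h2⟩
    have := h1 m i
    simp only [Pi.neg_apply] at this
    show v m i = - δ i + -1 * ind (X m) i
    omega

theorem sum_ind_mul (A : ι) (f : ι → ℤ) : ∑ i, ind A i * f i = f A := by
  unfold ind
  simp only [ite_mul, one_mul, zero_mul]
  rw [Finset.sum_ite_eq' Finset.univ A]
  simp

theorem ip_eps_ind_sub_right (ε : ℤ) (A B : ι) (u x : ι → ℤ)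
    (hu : ∀ i, u i = ε * (ind A i - ind B i)) : ip x u = ε * (x A - x B) := by
  rw [ip_comm]
  unfold ip
  have : ∀ i, u i * x i = ε * (ind A i * x i) - ε * (ind B i * x i) := fun i => by rw [hu]; ring
  simp only [this]
  rw [Finset.sum_sub_distrib, ← Finset.mul_sum, ← Finset.mul_sum, sum_ind_mul, sum_ind_mul]
  ring

/-- Five distinct coordinates with nonzero entries force norm at least five. -/
theorem five_le_ip_self (w : ι → ℤ) (i1 i2 i3 i4 i5 : ι) (h12 : i1 ≠ i2) (h13 : i1 ≠ i3)
    (h14 : i1 ≠ i4) (h15 : i1 ≠ i5) (h23 : i2 ≠ i3) (h24 : i2 ≠ i4) (h25 : i2 ≠ i5)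
    (h34 : i3 ≠ i4) (h35 : i3 ≠ i5) (h45 : i4 ≠ i5) (w1 : w i1 ≠ 0) (w2 : w i2 ≠ 0)
    (w3 : w i3 ≠ 0) (w4 : w i4 ≠ 0) (w5 : w i5 ≠ 0) : 5 ≤ ip w w := by
  set S : Finset ι := {i1, i2, i3, i4, i5} with hS
  have hcard : S.card = 5 := by
    rw [hS, Finset.card_insert_of_notMem, Finset.card_insert_of_notMem,
      Finset.card_insert_of_notMem, Finset.card_insert_of_notMem, Finset.card_singleton]
    · simp [h45]
    · simp [h34, h35]
    · simp [h23, h24, h25]
    · simp [h12, h13, h14, h15]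
  have h1 : ∀ i ∈ S, (1 : ℤ) ≤ w i * w i := by
    intro i hi
    have hne : w i ≠ 0 := by
      rw [hS] at hi
      simp only [Finset.mem_insert, Finset.mem_singleton] at hi
      rcases hi with rfl | rfl | rfl | rfl | rfl <;> assumption
    have := mul_self_pos.mpr hne
    omega
  have h2 : (S.card : ℤ) ≤ ∑ i ∈ S, w i * w i := by
    have := Finset.card_nsmul_le_sum S (fun i => w i * w i) 1 h1
    simpa using this
  have h3 : ∑ i ∈ S, w i * w i ≤ ∑ i, w i * w i :=
    Finset.sum_le_sum_of_subset_of_nonneg (Finset.subset_univ S)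
      (fun i _ _ => mul_self_nonneg _)
  unfold ip
  rw [hcard] at h2
  omega

end gram

end Cfsg.Agent.H2.Hom2
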