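import Mathlib
import Cfsg.Agent.H2.Hom2.C1

set_option autoImplicit false
set_option linter.style.haveILetI false
set_option linter.unusedSectionVars false
set_option linter.unusedVariables false

/-!
# Integer vectors with a prescribed Gram matrix, part 2: the vector of the principal character
-/

namespace Cfsg.Agent.H2.Hom2

open Cfsg.Agent.Lib.helper3.Irr

variable {ι : Type*} [Fintype ι] [DecidableEq ι]
variable {Λ : Type*} {r : Λ → Λ → Prop} [DecidableRel r] {v : Λ → ι → ℤ} {d : ι → ℤ} {c : ℤ}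

/-- The full structure: the vectors `v l`, and the additional vector `a1`. -/
theorem GramHyp.full (h : GramHyp r v d c) (a1 : ι → ℤ) (o : ι)
    (hG2 : ∀ l, ip a1 (v l) = c) (hG3 : ip a1 a1 = c + 3) (ho1 : a1 o = 1)
    (ho2 : ∀ l, v l o = 0) {l1 l2 l3 l4 l5 : Λ}
    (h12 : ¬ r l1 l2) (h13 : ¬ r l1 l3) (h14 : ¬ r l1 l4) (h15 : ¬ r l1 l5)
    (h23 : ¬ r l2 l3) (h24 : ¬ r l2 l4) (h25 : ¬ r l2 l5) (h34 : ¬ r l3 l4) (h35 : ¬ r l3 l5)
    (h45 : ¬ r l4 l5) :
    ∃ (ε : ℤ) (δ : ι → ℤ) (X : Λ → ι) (Y Y' : ι) (s s' : ℤ),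
      (ε = 1 ∨ ε = -1) ∧ (s = 1 ∨ s = -1) ∧ (s' = 1 ∨ s' = -1) ∧
      (∀ m i, v m i = δ i + ε * ind (X m) i) ∧ (∀ m n, X m = X n ↔ r m n) ∧
      (∀ i, a1 i = δ i + ind o i + s * ind Y i + s' * ind Y' i) ∧
      Y ≠ o ∧ Y' ≠ o ∧ Y ≠ Y' ∧ (∀ m, X m ≠ o ∧ X m ≠ Y ∧ X m ≠ Y') ∧ δ o = 0 := by
  classical
  obtain ⟨ε, δ, X, hε, hv, hX⟩ := h.structure h12 h13 h23
  have hε2 : ε * ε = 1 := by rcases hε with rfl | rfl <;> norm_num
  have hε0 : ε ≠ 0 := by rcases hε with rfl | rfl <;> norm_num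
  obtain ⟨hg1, hdpos, hD, hrefl, hsymm⟩ := h
  -- `X m ≠ o`
  have hXo : ∀ m, X m ≠ o := by
    intro m hm
    -- pick `n` inequivalent to `m`
    have hex : ∃ n, ¬ r m n := by
      by_contra hall
      push Not at hall
      apply h12
      rw [← hX]
      rw [(hX m l1).mpr (hall l1)] at *
      exact ((hX m l1).mpr (hall l1)).symm.trans ((hX m l2).mpr (hall l2))
    obtain ⟨n, hn⟩ := hex
    have e1 := hv m o
    rw [ho2, hm, ind_self] at e1
    have e2 := hv n o
    have hne : X n ≠ o := by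
      intro h'
      apply hn
      rw [← hX, hm, h']
    rw [ho2, ind_ne (fun h' => hne h'.symm)] at e2
    omega
  have hδo : δ o = 0 := by
    have e1 := hv l1 o
    rw [ho2, ind_ne (fun h' => hXo l1 h'.symm)] at e1
    omega
  -- the vector `w`
  set w : ι → ℤ := a1 - v l1 with hw
  have hww : ip w w = 4 := by
    rw [hw, ip_sub_left, ip_sub_right, ip_sub_right, hG3, hG2, ip_comm (v l1) a1, hG2, hg1,
      if_pos (hrefl l1)]
    ring
  have hwo : w o = 1 := by
    rw [hw, Pi.sub_apply, ho1, ho2]; ring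
  have hwX : ∀ m, ¬ r l1 m → w (X m) = w (X l1) + ε := by
    intro m hm
    have e1 : ip w (v l1 - v m) = -1 := by
      rw [hw, ip_sub_left, ip_sub_right, ip_sub_right, hG2, hG2, hg1, hg1, if_pos (hrefl l1),
        if_neg hm]
      ring
    rw [ip_eps_ind_sub_right ε (X l1) (X m) (v l1 - v m) w (fun i => by
      rw [Pi.sub_apply, hv l1 i, hv m i]; ring)] at e1
    have : ε * (ε * (w (X l1) - w (X m))) = ε * (-1) := by rw [e1]
    rw [← mul_assoc, hε2] at this
    linarith
  -- `κ = 0`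
  have hκ : w (X l1) + ε = 0 := by
    by_contra hne
    have hXne : ∀ {m n}, ¬ r m n → X m ≠ X n := fun hmn h' => hmn ((hX _ _).mp h')
    have := five_le_ip_self w o (X l2) (X l3) (X l4) (X l5) (fun h' => hXo l2 h'.symm)
      (fun h' => hXo l3 h'.symm) (fun h' => hXo l4 h'.symm) (fun h' => hXo l5 h'.symm)
      (hXne h23) (hXne h24) (hXne h25) (hXne h34) (hXne h35) (hXne h45)
      (by rw [hwo]; norm_num) (by rw [hwX l2 h12]; exact hne) (by rw [hwX l3 h13]; exact hne)
      (by rw [hwX l4 h14]; exact hne) (by rw [hwX l5 h15]; exact hne)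
    omega
  have hwX1 : w (X l1) = -ε := by linarith
  have hwX0 : ∀ m, ¬ r l1 m → w (X m) = 0 := by
    intro m hm
    rw [hwX m hm, hκ]
  -- remove the two known coordinates
  set w' : ι → ℤ := fun i => if i = o ∨ i = X l1 then 0 else w i with hw'
  have hoX : o ≠ X l1 := fun h' => hXo l1 h'.symm
  have hsplit : ∀ i, w i * w i = w' i ^ 2 + ind o i * (w o * w o) +
      ind (X l1) i * (w (X l1) * w (X l1)) := by
    intro i
    by_cases hio : i = o
    · subst hio
      rw [hw']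
      simp only [true_or, if_true]
      rw [ind_self, ind_ne hoX]
      ring
    · by_cases hiX : i = X l1
      · subst hiX
        rw [hw']
        simp only [or_true, if_true]
        rw [ind_self, ind_ne hio]
        ring
      · rw [hw']
        simp only [hio, hiX, or_self, if_false]
        rw [ind_ne hio, ind_ne hiX]
        ring
  have hw'2 : ∑ i, w' i ^ 2 = 2 := by
    have e : ip w w = ∑ i, w' i ^ 2 + w o * w o + w (X l1) * w (X l1) := by
      unfold ip
      rw [Finset.sum_congr rfl (fun i _ => hsplit i)]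
      rw [Finset.sum_add_distrib, Finset.sum_add_distrib, sum_ind_mul (ι := ι) o (fun _ => w o * w o),
        sum_ind_mul (ι := ι) (X l1) (fun _ => w (X l1) * w (X l1))]
    rw [hww, hwo, hwX1] at e
    have : -ε * -ε = 1 := by rw [neg_mul_neg, hε2]
    rw [this] at e
    linarith
  obtain ⟨Y, Y', hYY', hY, hY', hrest⟩ := int_sq_sum_two w' hw'2
  have hw'ne : ∀ i, w' i ≠ 0 → i ≠ o ∧ i ≠ X l1 ∧ w' i = w i := by
    intro i hi
    by_cases hc : i = o ∨ i = X l1
    · exfalso
      apply hi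
      rw [hw']
      simp only [hc, if_true]
    · push Not at hc
      refine ⟨hc.1, hc.2, ?_⟩
      rw [hw']
      simp only [hc.1, hc.2, or_self, if_false]
  have hYne : w' Y ≠ 0 := by rcases hY with h' | h' <;> rw [h'] <;> norm_num
  have hY'ne : w' Y' ≠ 0 := by rcases hY' with h' | h' <;> rw [h'] <;> norm_num
  obtain ⟨hYo, hYX, hYw⟩ := hw'ne Y hYne
  obtain ⟨hY'o, hY'X, hY'w⟩ := hw'ne Y' hY'ne
  have hXY : ∀ m, X m ≠ Y ∧ X m ≠ Y' := by
    intro m
    by_cases hm : r l1 m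
    · have : X l1 = X m := (hX l1 m).mpr hm
      rw [← this]
      exact ⟨fun h' => hYX h'.symm, fun h' => hY'X h'.symm⟩
    · have h0 := hwX0 m hm
      constructor
      · intro h'
        rw [h', ← hYw] at h0
        exact hYne h0
      · intro h'
        rw [h', ← hY'w] at h0
        exact hY'ne h0
  refine ⟨ε, δ, X, Y, Y', w' Y, w' Y', hε, hY, hY', hv, hX, ?_, hYo, hY'o, hYY',
    fun m => ⟨hXo m, (hXY m).1, (hXY m).2⟩, hδo⟩
  intro i
  have hai : a1 i = v l1 i + w i := by rw [hw, Pi.sub_apply]; ring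
  rw [hai, hv l1 i]
  by_cases hio : i = o
  · subst hio
    rw [hwo, ind_self, ind_ne hoX, ind_ne (fun h' => hYo h'.symm), ind_ne (fun h' => hY'o h'.symm)]
    ring
  by_cases hiX : i = X l1
  · subst hiX
    rw [hwX1, ind_self, ind_ne hio, ind_ne (fun h' => hYX h'.symm),
      ind_ne (fun h' => hY'X h'.symm)]
    ring
  by_cases hiY : i = Y
  · subst hiY
    rw [← hYw, ind_self, ind_ne hio, ind_ne hiX, ind_ne hYY']
    ring
  by_cases hiY' : i = Y'
  · subst hiY'
    rw [← hY'w, ind_self, ind_ne hio, ind_ne hiX, ind_ne hiY]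
    ring
  have hw'i : w' i = 0 := hrest i hiY hiY'
  have hwi : w i = 0 := by
    rw [hw'] at hw'i
    simpa [hio, hiX] using hw'i
  rw [hwi, ind_ne hio, ind_ne hiX, ind_ne hiY, ind_ne hiY']
  ring

end Cfsg.Agent.H2.Hom2
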