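import Mathlib
import Cfsg.Prelude.Def_Characters
import Cfsg.Agent.Lib.helper3.Irr12
import Cfsg.Agent.Lib.helper3.Irr10

set_option autoImplicit false
set_option linter.style.haveILetI false
set_option linter.unusedSectionVars false
set_option linter.unusedVariables false

/-!
# Fourier analysis on an abelian group with a fixed-point-free automorphism of order three
-/

namespace Cfsg.Agent.H2.Hom2

open Cfsg Cfsg.Agent.Lib.helper3.Irr Cfsg.Agent.Lib.helper3.IndFun
open Cfsg.Agent.Lib.helper3.CharBasic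
open scoped ComplexConjugate

section fourier

variable {P : Type*} [Group P] [Fintype P] {ι : Type*} [Fintype ι] (f : ι → P → ℂ)

/-- The kernel `∑ᵢ fᵢ(u) conj fᵢ(u')`. -/
noncomputable def ker2 (u u' : P) : ℂ := ∑ i, f i u * conj (f i u')

theorem sum_classInner_mul (φ ψ : P → ℂ) :
    ∑ i, classInner (f i) φ * classInner ψ (f i) =
      ((Nat.card P : ℂ)⁻¹) ^ 2 * ∑ u, ∑ u', conj (φ u) * ψ u' * ker2 f u u' := by
  simp only [classInner_apply, ker2]
  have h1 : ∀ i, (Nat.card P : ℂ)⁻¹ * (∑ g, f i g * conj (φ g)) *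
      ((Nat.card P : ℂ)⁻¹ * ∑ g, ψ g * conj (f i g)) =
      ((Nat.card P : ℂ)⁻¹) ^ 2 * ∑ u, ∑ u', conj (φ u) * ψ u' * (f i u * conj (f i u')) := by
    intro i
    rw [pow_two]
    have : (∑ g, f i g * conj (φ g)) * (∑ g, ψ g * conj (f i g)) =
        ∑ u, ∑ u', conj (φ u) * ψ u' * (f i u * conj (f i u')) := by
      rw [Finset.sum_mul_sum]
      apply Finset.sum_congr rfl
      intro u _
      apply Finset.sum_congr rfl
      intro u' _
      ring
    rw [← this]
    ring
  rw [Finset.sum_congr rfl (fun i _ => h1 i), ← Finset.mul_sum]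
  congr 1
  rw [Finset.sum_comm]
  apply Finset.sum_congr rfl
  intro u _
  rw [Finset.sum_comm]
  apply Finset.sum_congr rfl
  intro u' _
  rw [Finset.mul_sum]

theorem sum_apply_one_mul_classInner (ψ : P → ℂ) :
    ∑ i, f i 1 * classInner ψ (f i) = (Nat.card P : ℂ)⁻¹ * ∑ u, ψ u * ker2 f 1 u := by
  simp only [classInner_apply, ker2]
  rw [Finset.mul_sum]
  have h1 : ∀ i, f i 1 * ((Nat.card P : ℂ)⁻¹ * ∑ g, ψ g * conj (f i g)) =
      ∑ u, (Nat.card P : ℂ)⁻¹ * (ψ u * (f i 1 * conj (f i u))) := by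
    intro i
    rw [Finset.mul_sum, Finset.mul_sum]
    apply Finset.sum_congr rfl
    intro u _
    ring
  rw [Finset.sum_congr rfl (fun i _ => h1 i), Finset.sum_comm]
  apply Finset.sum_congr rfl
  intro u _
  rw [Finset.mul_sum, Finset.mul_sum]

end fourier

section kernel

variable {P : Type*} [Group P] [Fintype P] [DecidableEq P] {ι : Type*} [Fintype ι]
  (f : ι → P → ℂ) (α : P ≃* P) (D : ℂ)

/-- The hypothesis on the kernel: it is `|P|` on the orbits of `α`, and `D` at `(1, 1)`. -/
def KerHyp : Prop :=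
  ∀ u u' : P, ker2 f u u' = (Nat.card P : ℂ) * ((if u' = u then 1 else 0) +
    (if u' = α u then 1 else 0) + (if u' = α (α u) then 1 else 0)) +
    (if u = 1 ∧ u' = 1 then D - 3 * (Nat.card P : ℂ) else 0)

variable {f α D}

theorem KerHyp.inner_sum (h : KerHyp f α D) (ψ : P → ℂ) (u : P) :
    ∑ u', ψ u' * ker2 f u u' = (Nat.card P : ℂ) * (ψ u + ψ (α u) + ψ (α (α u))) +
      (if u = 1 then (D - 3 * (Nat.card P : ℂ)) * ψ 1 else 0) := by
  have h1 : ∀ u', ψ u' * ker2 f u u' =
      (Nat.card P : ℂ) * ((if u' = u then ψ u' else 0) + (if u' = α u then ψ u' else 0) +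
        (if u' = α (α u) then ψ u' else 0)) +
      (if u' = 1 then (if u = 1 then (D - 3 * (Nat.card P : ℂ)) * ψ 1 else 0) else 0) := by
    intro u'
    rw [h u u']
    by_cases hu1 : u = 1
    · by_cases hu'1 : u' = 1
      · subst hu1 hu'1
        simp only [and_self, if_true]
        split_ifs <;> ring
      · simp only [hu'1, and_false, if_false]
        split_ifs <;> ring
    · simp only [hu1, false_and, if_false]
      split_ifs <;> ring
  rw [Finset.sum_congr rfl (fun u' _ => h1 u'), Finset.sum_add_distrib, ← Finset.mul_sum,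
    Finset.sum_add_distrib, Finset.sum_add_distrib, Finset.sum_ite_eq', Finset.sum_ite_eq',
    Finset.sum_ite_eq', Finset.sum_ite_eq']
  simp only [Finset.mem_univ, if_true]

theorem KerHyp.gram [Nonempty P] (h : KerHyp f α D) (φ ψ : P → ℂ) :
    ∑ i, classInner (f i) φ * classInner ψ (f i) =
      classInner ψ φ + classInner (fun u => ψ (α u)) φ + classInner (fun u => ψ (α (α u))) φ +
        ((Nat.card P : ℂ)⁻¹) ^ 2 * (D - 3 * (Nat.card P : ℂ)) * conj (φ 1) * ψ 1 := by
  rw [sum_classInner_mul]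
  have hq : (Nat.card P : ℂ) ≠ 0 := by
    have : Nat.card P ≠ 0 := Nat.card_pos.ne'
    exact_mod_cast this
  have h1 : ∀ u, ∑ u', conj (φ u) * ψ u' * ker2 f u u' =
      (Nat.card P : ℂ) * (ψ u * conj (φ u) + ψ (α u) * conj (φ u) + ψ (α (α u)) * conj (φ u)) +
      (if u = 1 then (D - 3 * (Nat.card P : ℂ)) * conj (φ 1) * ψ 1 else 0) := by
    intro u
    have : ∀ u', conj (φ u) * ψ u' * ker2 f u u' = conj (φ u) * (ψ u' * ker2 f u u') :=
      fun u' => by ring
    rw [Finset.sum_congr rfl (fun u' _ => this u'), ← Finset.mul_sum, h.inner_sum ψ u]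
    by_cases hu : u = 1
    · subst hu
      simp only [if_true]
      ring
    · simp only [hu, if_false]
      ring
  rw [Finset.sum_congr rfl (fun u _ => h1 u), Finset.sum_add_distrib, ← Finset.mul_sum,
    Finset.sum_add_distrib, Finset.sum_add_distrib, Finset.sum_ite_eq']
  simp only [Finset.mem_univ, if_true, classInner_apply]
  field_simp

theorem KerHyp.degree_sum [Nonempty P] (h : KerHyp f α D) (ψ : P → ℂ) :
    ∑ i, f i 1 * classInner ψ (f i) = (Nat.card P : ℂ)⁻¹ * D * ψ 1 := by
  rw [sum_apply_one_mul_classInner, h.inner_sum ψ 1]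
  have hq : (Nat.card P : ℂ) ≠ 0 := by
    have : Nat.card P ≠ 0 := Nat.card_pos.ne'
    exact_mod_cast this
  simp only [map_one, if_true]
  field_simp
  ring

end kernel

end Cfsg.Agent.H2.Hom2
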