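import Mathlib
import Cfsg.Prelude.Def_Characters
import Cfsg.Agent.Lib.helper3.Irr12
import Cfsg.Agent.Lib.helper3.Irr11
import Cfsg.Agent.Lib.helper3.Irr10
import Cfsg.Agent.Lib.helper3.Irr8
import Cfsg.Agent.Lib.helper3.Lin
import Cfsg.Agent.H2.Hom2.C3

set_option autoImplicit false
set_option linter.style.haveILetI false
set_option linter.unusedSectionVars false
set_option linter.unusedVariables false

/-!
# The dual action of a fixed-point-free automorphism of order three, and the multiplicities
-/

namespace Cfsg.Agent.H2.Hom2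

open Cfsg Cfsg.Agent.Lib.helper3.Irr Cfsg.Agent.Lib.helper3.IndFun
open Cfsg.Agent.Lib.helper3.CharBasic
open scoped ComplexConjugate

section act

variable {P : Type*} [Group P] [Fintype P] (α : P ≃* P)

/-- The dual action on irreducible characters. -/
noncomputable def act (l : IrrCharacter P) : IrrCharacter P :=
  ⟨fun u => (l : P → ℂ) (α u), isIrrCharacter_comp_mulEquiv α l.2⟩

/-- The principal character. -/
noncomputable def oneC : IrrCharacter P := ⟨fun _ => 1, isIrrCharacter_one⟩

theorem act_apply (l : IrrCharacter P) (u : P) : (act α l : P → ℂ) u = (l : P → ℂ) (α u) := rfl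

theorem oneC_apply (u : P) : ((oneC : IrrCharacter P) : P → ℂ) u = 1 := rfl

theorem act_oneC : act α (oneC : IrrCharacter P) = oneC := by
  apply Subtype.ext
  funext u
  rfl

variable {α}

theorem act_act_act (hα3 : ∀ u, α (α (α u)) = u) (l : IrrCharacter P) :
    act α (act α (act α l)) = l := by
  apply Subtype.ext
  funext u
  rw [act_apply, act_apply, act_apply, hα3]

theorem act_injective (hα3 : ∀ u, α (α (α u)) = u) : Function.Injective (act α) := by
  intro l m hlm
  rw [← act_act_act hα3 l, ← act_act_act hα3 m, hlm]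

theorem act_ne (hcomm : ∀ a b : P, a * b = b * a) (hfpf : ∀ u, α u = u → u = 1)
    {l : IrrCharacter P} (hl : l ≠ oneC) : act α l ≠ l := by
  intro h
  apply hl
  have hlin : (l : P → ℂ) 1 = 1 := apply_one_eq_one_of_comm hcomm l.2
  have hmul := Cfsg.Agent.Lib.helper3.Lin.map_mul_of_apply_one_eq_one
    (isCharacter_of_isIrrCharacter l.2) hlin
  have hinv : ∀ u, (l : P → ℂ) (α u) = (l : P → ℂ) u := by
    intro u
    have := congrArg (fun m : IrrCharacter P => (m : P → ℂ) u) h
    simpa [act_apply] using this
  have hinj : Function.Injective (fun u : P => u⁻¹ * α u) := by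
    intro u w huw
    simp only at huw
    have h1 : α (u * w⁻¹) = u * w⁻¹ := by
      rw [map_mul, map_inv]
      have e1 : α u = u * (w⁻¹ * α w) := by rw [← huw]; group
      rw [e1]
      group
    have := hfpf _ h1
    exact mul_inv_eq_one.mp this
  have hsurj : Function.Surjective (fun u : P => u⁻¹ * α u) :=
    Finite.injective_iff_surjective.mp hinj
  apply Subtype.ext
  funext w
  obtain ⟨u, rfl⟩ := hsurj w
  show (l : P → ℂ) (u⁻¹ * α u) = 1
  rw [hmul, hinv, ← hmul, inv_mul_cancel, hlin]

theorem act_act_ne (hcomm : ∀ a b : P, a * b = b * a) (hα3 : ∀ u, α (α (α u)) = u)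
    (hfpf : ∀ u, α u = u → u = 1) {l : IrrCharacter P} (hl : l ≠ oneC) :
    act α (act α l) ≠ l := by
  intro h
  apply act_ne hcomm hfpf hl
  have := congrArg (act α) h
  rw [act_act_act hα3] at this
  exact this.symm

theorem act_ne_oneC (hα3 : ∀ u, α (α (α u)) = u) {l : IrrCharacter P} (hl : l ≠ oneC) :
    act α l ≠ oneC := by
  intro h
  apply hl
  apply act_injective hα3
  rw [h, act_oneC]

/-- The number of irreducible characters of a commutative group. -/
theorem card_irr_of_comm (hcomm : ∀ a b : P, a * b = b * a) :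
    Fintype.card (IrrCharacter P) = Nat.card P := by
  have h := sum_sq_degree (G := P)
  have h1 : ∀ χ : IrrCharacter P, (χ : P → ℂ) 1 ^ 2 = 1 := by
    intro χ
    rw [apply_one_eq_one_of_comm hcomm χ.2, one_pow]
  rw [Finset.sum_congr rfl (fun χ _ => h1 χ), Finset.sum_const, Finset.card_univ,
    nsmul_eq_mul, mul_one] at h
  exact_mod_cast h

end act

end Cfsg.Agent.H2.Hom2
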