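import Mathlib
import Cfsg.Prelude.Def_Characters
import Cfsg.Agent.H2.Hom2.C2
import Cfsg.Agent.H2.Hom2.C4

set_option autoImplicit false
set_option linter.style.haveILetI false
set_option linter.unusedSectionVars false
set_option linter.unusedVariables false

/-!
# The multiplicities of the linear characters: the Gram matrix
-/

namespace Cfsg.Agent.H2.Hom2

open Cfsg Cfsg.Agent.Lib.helper3.Irr Cfsg.Agent.Lib.helper3.IndFun
open Cfsg.Agent.Lib.helper3.CharBasic
open scoped ComplexConjugate

section coef

variable {P : Type*} [Group P] [Fintype P] {ι : Type*} [Fintype ι] {f : ι → P → ℂ}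
  (hchar : ∀ i, IsCharacter P (f i))

/-- The multiplicity of the irreducible character `l` in `f i`. -/
noncomputable def coef (i : ι) (l : IrrCharacter P) : ℤ :=
  ((Classical.choose (exists_nat_classInner_of_isCharacter (hchar i) l) : ℕ) : ℤ)

theorem coef_spec (i : ι) (l : IrrCharacter P) :
    ((coef hchar i l : ℤ) : ℂ) = classInner (f i) (l : P → ℂ) := by
  unfold coef
  have := Classical.choose_spec (exists_nat_classInner_of_isCharacter (hchar i) l)
  push_cast
  exact this.symm

theorem coef_spec' (i : ι) (l : IrrCharacter P) :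
    ((coef hchar i l : ℤ) : ℂ) = classInner (l : P → ℂ) (f i) := by
  rw [← classInner_conj_symm, ← coef_spec hchar i l]
  simp

theorem coef_nonneg (i : ι) (l : IrrCharacter P) : 0 ≤ coef hchar i l := by
  unfold coef
  exact Int.natCast_nonneg _

theorem apply_eq_sum_coef (i : ι) (u : P) :
    f i u = ∑ l : IrrCharacter P, ((coef hchar i l : ℤ) : ℂ) * (l : P → ℂ) u := by
  have h := congrFun (isCharacter_eq_sum_classInner (hchar i)) u
  rw [Finset.sum_apply] at h
  rw [h]
  apply Finset.sum_congr rfl
  intro l _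
  rw [coef_spec hchar i l]
  rfl

variable [DecidableEq P] {α : P ≃* P} {D : ℂ}

open Classical in
/-- The orbit count. -/
noncomputable def kk (α : P ≃* P) (l m : IrrCharacter P) : ℤ :=
  (if m = l then 1 else 0) + (if act α m = l then 1 else 0) +
    (if act α (act α m) = l then 1 else 0)

theorem classInner_irr (l m : IrrCharacter P) :
    classInner (m : P → ℂ) (l : P → ℂ) = (((if m = l then 1 else 0 : ℤ)) : ℂ) := by
  rw [irr_classInner_eq m.2 l.2]
  by_cases h : m = l
  · subst h
    simp
  · have : (m : P → ℂ) ≠ (l : P → ℂ) := fun h' => h (Subtype.ext h')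
    simp [h, this]

theorem gram_complex [Nonempty P] (h : KerHyp f α D) (hcomm : ∀ a b : P, a * b = b * a)
    (l m : IrrCharacter P) :
    ((∑ i, coef hchar i l * coef hchar i m : ℤ) : ℂ) =
      ((kk α l m : ℤ) : ℂ) + ((Nat.card P : ℂ)⁻¹) ^ 2 * (D - 3 * (Nat.card P : ℂ)) := by
  have hg := h.gram (l : P → ℂ) (m : P → ℂ)
  have e1 : classInner (fun u => (m : P → ℂ) (α u)) (l : P → ℂ) =
      (((if act α m = l then 1 else 0 : ℤ)) : ℂ) := classInner_irr l (act α m)
  have e2 : classInner (fun u => (m : P → ℂ) (α (α u))) (l : P → ℂ) =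
      (((if act α (act α m) = l then 1 else 0 : ℤ)) : ℂ) := classInner_irr l (act α (act α m))
  rw [e1, e2, classInner_irr l m, apply_one_eq_one_of_comm hcomm l.2,
    apply_one_eq_one_of_comm hcomm m.2, map_one, mul_one, mul_one] at hg
  have hk : ((kk α l m : ℤ) : ℂ) = (((if m = l then 1 else 0 : ℤ)) : ℂ) +
      (((if act α m = l then 1 else 0 : ℤ)) : ℂ) +
      (((if act α (act α m) = l then 1 else 0 : ℤ)) : ℂ) := by
    unfold kk
    push_cast
    rfl
  rw [hk, ← hg]
  push_cast
  apply Finset.sum_congr rfl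
  intro i _
  rw [coef_spec hchar i l, coef_spec' hchar i m]

theorem degree_complex [Nonempty P] (h : KerHyp f α D) (hcomm : ∀ a b : P, a * b = b * a)
    (d : ι → ℤ) (hd : ∀ i, f i 1 = ((d i : ℤ) : ℂ)) (l : IrrCharacter P) :
    ((∑ i, d i * coef hchar i l : ℤ) : ℂ) = (Nat.card P : ℂ)⁻¹ * D := by
  have hg := h.degree_sum (l : P → ℂ)
  rw [apply_one_eq_one_of_comm hcomm l.2, mul_one] at hg
  rw [← hg]
  push_cast
  apply Finset.sum_congr rfl
  intro i _
  rw [hd i, coef_spec' hchar i l]

end coef

end Cfsg.Agent.H2.Hom2
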