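import Mathlib
import Cfsg.Prelude.Def_Solvable
import Cfsg.Agent.H1.Cores
import Cfsg.Agent.H2.HomocyclicSylow
import Cfsg.Agent.H2.BSUnique
import Cfsg.Agent.Lib.helper3.KleinOne3

set_option autoImplicit false
set_option linter.style.haveILetI false
set_option linter.unusedSectionVars false
set_option linter.unusedVariables false

/-!
# Homocyclic Sylow 2-subgroups of rank two: the endgame (the Sylow subgroup is normal)
-/

namespace Cfsg.Agent.H2.Hom2

open Cfsg Cfsg.Agent.H2.Homocyc

universe u

variable {G : Type u} [Group G] [Finite G]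

/-- A normal complement to a Sylow `p`-subgroup contains every `p`-regular element. -/
theorem mem_of_isComplement' {p : ℕ} [Fact p.Prime] (P : Sylow p G) (K : Subgroup G)
    [hK : K.Normal] (hc : Subgroup.IsComplement' K (P : Subgroup G)) (g : G)
    (hg : ¬ p ∣ orderOf g) : g ∈ K := by
  classical
  letI : Fintype G := Fintype.ofFinite G
  have h1 : (P : Subgroup G).index = Nat.card K := hc.index_eq_card
  have hKp : (Nat.card K).Coprime p := by
    rw [Nat.coprime_comm, Nat.Prime.coprime_iff_not_dvd Fact.out, ← h1]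
    exact P.not_dvd_index
  have hidx : K.index = Nat.card (P : Subgroup G) := hc.symm.index_eq_card
  obtain ⟨k, hk⟩ := IsPGroup.iff_card.mp P.2
  rw [hk] at hidx
  exact (Cfsg.Agent.Lib.helper3.Block.mem_normal_complement_iff Fact.out K hKp k hidx g).mp hg

/-- The endgame: if the Sylow `2`-subgroup is normal, it is self-centralizing of index `1` or
`3`. -/
theorem endgame (P : Sylow 2 G) (m : ℕ) (hm : 1 ≤ m)
    (e : (P : Subgroup G) ≃* Multiplicative (ZMod (2 ^ m) × ZMod (2 ^ m)))
    (hO : Cfsg.pPrimeCore 2 G = ⊥) (hPn : (P : Subgroup G).Normal) :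
    Subgroup.centralizer ((P : Subgroup G) : Set G) = (P : Subgroup G) ∧
      ((P : Subgroup G).index = 1 ∨ (P : Subgroup G).index = 3) := by
  classical
  haveI := hPn
  haveI : Fact (Nat.Prime 2) := ⟨Nat.prime_two⟩
  have hPc := comm_of_equiv e
  set C : Subgroup G := Subgroup.centralizer ((P : Subgroup G) : Set G) with hC
  haveI hCn : C.Normal := by rw [hC]; infer_instance
  have hPC : (P : Subgroup G) ≤ C := by
    intro x hx
    rw [hC, Subgroup.mem_centralizer_iff]
    intro y hy
    exact hPc y hy x hx
  -- the Sylow subgroup of `C`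
  let P' : Sylow 2 C := P.subtype hPC
  have hP' : ((P' : Subgroup C)) = (P : Subgroup G).subgroupOf C := rfl
  have hNC : Subgroup.normalizer ((P' : Subgroup C) : Set C) ≤
      Subgroup.centralizer ((P' : Subgroup C) : Set C) := by
    intro x _
    rw [Subgroup.mem_centralizer_iff]
    intro y hy
    have hy' : (y : G) ∈ (P : Subgroup G) := by
      rw [SetLike.mem_coe, hP', Subgroup.mem_subgroupOf] at hy
      exact hy
    have := (Subgroup.mem_centralizer_iff.mp x.2) (y : G) hy'
    exact Subtype.ext this
  set K : Subgroup C := (MonoidHom.transferSylow P' hNC).ker with hK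
  haveI hKn : K.Normal := by rw [hK]; infer_instance
  have hcomp : Subgroup.IsComplement' K (P' : Subgroup C) :=
    MonoidHom.ker_transferSylow_isComplement' P' hNC
  -- `K` is normal in `G`
  have hKG : (K.map C.subtype).Normal := by
    constructor
    rintro _ ⟨x, hx, rfl⟩ g
    have hmem : g * (x : G) * g⁻¹ ∈ C := hCn.conj_mem _ x.2 g
    refine ⟨⟨g * (x : G) * g⁻¹, hmem⟩, ?_, rfl⟩
    apply mem_of_isComplement' P' K hcomp
    have hox : ¬ 2 ∣ orderOf x := by
      intro h2
      have h3 : (P' : Subgroup C).index = Nat.card K := hcomp.index_eq_card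
      have h4 : 2 ∣ Nat.card K := h2.trans (Subgroup.orderOf_dvd_natCard K hx)
      rw [← h3] at h4
      exact P'.not_dvd_index h4
    have e1 : orderOf (⟨g * (x : G) * g⁻¹, hmem⟩ : C) = orderOf x := by
      rw [← Subgroup.orderOf_coe, ← Subgroup.orderOf_coe x]
      show orderOf (g * (x : G) * g⁻¹) = orderOf (x : G)
      have := (MulAut.conj g).orderOf_eq (x : G)
      rwa [MulAut.conj_apply] at this
    rw [e1]
    exact hox
  have hKbot : K.map C.subtype = ⊥ := by
    apply Cfsg.Agent.H2.BSUnique.eq_bot_of_odd hO _ hKG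
    have h3 : (P' : Subgroup C).index = Nat.card K := hcomp.index_eq_card
    have h4 : ¬ 2 ∣ Nat.card K := by
      rw [← h3]; exact P'.not_dvd_index
    have h5 : Nat.card (K.map C.subtype) = Nat.card K :=
      Nat.card_congr (Subgroup.equivMapOfInjective K C.subtype C.subtype_injective).symm.toEquiv
    rw [h5]
    exact Nat.odd_iff.mpr (Nat.two_dvd_ne_zero.mp h4)
  have hKbot' : K = ⊥ := by
    rw [Subgroup.map_eq_bot_iff_of_injective _ C.subtype_injective] at hKbot
    exact hKbot
  rw [hKbot'] at hcomp
  have hPtop : (P' : Subgroup C) = ⊤ := Subgroup.isComplement'_bot_left.mp hcomp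
  have hCP : C ≤ (P : Subgroup G) := by
    intro x hx
    have : (⟨x, hx⟩ : C) ∈ (P' : Subgroup C) := by rw [hPtop]; trivial
    rw [hP', Subgroup.mem_subgroupOf] at this
    exact this
  have hCeq : C = (P : Subgroup G) := le_antisymm hCP hPC
  refine ⟨hCeq, ?_⟩
  have h1 := (index_one_or_three P m hm e).1
  rw [← hC, hCeq, Subgroup.normalizer_eq_top, Subgroup.relIndex_top_right] at h1
  exact h1

end Cfsg.Agent.H2.Hom2
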