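import Mathlib
import Cfsg.Agent.H2.HomocyclicSylow

set_option autoImplicit false
set_option linter.style.haveILetI false
set_option linter.unusedSectionVars false
set_option linter.unusedVariables false

/-!
# Homocyclic Sylow 2-subgroups of rank two: the automorphism of order three and fusion
-/

namespace Cfsg.Agent.H2.Hom2

open Cfsg Cfsg.Agent.H2.Homocyc

universe u

variable {G : Type u} [Group G] [Finite G] (P : Sylow 2 G) {m : ℕ} (hm : 1 ≤ m)
  (e : (P : Subgroup G) ≃* Multiplicative (ZMod (2 ^ m) × ZMod (2 ^ m)))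
  {n : G} (hn : n ∈ Subgroup.normalizer ((P : Subgroup G) : Set G))
  (hnC : n ∉ Subgroup.centralizer ((P : Subgroup G) : Set G))

/-- Conjugation by an element of the normalizer, as an automorphism of `P`. -/
noncomputable def alpha : ↥(P : Subgroup G) ≃* ↥(P : Subgroup G) :=
  (P : Subgroup G).normalizerMonoidHom ⟨n, hn⟩

theorem alpha_coe (u : ↥(P : Subgroup G)) : ((alpha P hn u : ↥(P : Subgroup G)) : G) = n * u * n⁻¹ :=
  rfl

include hm e hn hnC in
theorem relIndex_eq_three : (Subgroup.centralizer ((P : Subgroup G) : Set G)).relIndex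
    (Subgroup.normalizer ((P : Subgroup G) : Set G)) = 3 := by
  rcases (index_one_or_three P m hm e).1 with h | h
  · exfalso
    apply hnC
    exact Subgroup.relIndex_eq_one.mp h hn
  · exact h

include hm e hnC in
theorem alpha_pow_three : (P : Subgroup G).normalizerMonoidHom ⟨n, hn⟩ ^ 3 = 1 := by
  have hker := Subgroup.normalizerMonoidHom_ker (H := (P : Subgroup G))
  have hidx : ((P : Subgroup G).normalizerMonoidHom.ker).index = 3 := by
    rw [hker]
    exact relIndex_eq_three P hm e hn hnC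
  have := Subgroup.pow_index_mem ((P : Subgroup G).normalizerMonoidHom.ker)
    (⟨n, hn⟩ : Subgroup.normalizer ((P : Subgroup G) : Set G))
  rw [hidx, MonoidHom.mem_ker, map_pow] at this
  exact this

include hm e hnC in
theorem alpha_three (u : ↥(P : Subgroup G)) : alpha P hn (alpha P hn (alpha P hn u)) = u := by
  have h := alpha_pow_three P hm e hn hnC
  have h2 := congrArg (fun f : MulAut ↥(P : Subgroup G) => f u) h
  simp only [pow_succ, pow_zero, one_mul, MulAut.mul_apply, MulAut.one_apply] at h2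
  exact h2

include hm e hnC in
theorem alpha_fpf (u : ↥(P : Subgroup G)) (hu : alpha P hn u = u) : u = 1 := by
  by_contra hu1
  apply hnC
  have h2 := (index_one_or_three P m hm e).2 (u : G) u.2 (fun h => hu1 (Subtype.ext h))
  rw [← h2]
  refine ⟨?_, hn⟩
  show n ∈ Subgroup.centralizer ({(u : G)} : Set G)
  rw [Subgroup.mem_centralizer_iff]
  intro y hy
  rw [Set.mem_singleton_iff] at hy
  subst hy
  have h3 := congrArg Subtype.val hu
  rw [alpha_coe] at h3
  calc (u : G) * n = (n * u * n⁻¹) * n := by rw [h3]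
    _ = n * u := by group

include hm e hnC in
theorem range_cases (y : Subgroup.normalizer ((P : Subgroup G) : Set G)) :
    (P : Subgroup G).normalizerMonoidHom y = 1 ∨
      (P : Subgroup G).normalizerMonoidHom y = (P : Subgroup G).normalizerMonoidHom ⟨n, hn⟩ ∨
      (P : Subgroup G).normalizerMonoidHom y = (P : Subgroup G).normalizerMonoidHom ⟨n, hn⟩ *
        (P : Subgroup G).normalizerMonoidHom ⟨n, hn⟩ := by
  haveI : Fact (Nat.Prime 3) := ⟨by norm_num⟩
  set φ := (P : Subgroup G).normalizerMonoidHom with hφ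
  have hker := Subgroup.normalizerMonoidHom_ker (H := (P : Subgroup G))
  have hidx : (φ.ker).index = 3 := by
    rw [hφ, hker]
    exact relIndex_eq_three P hm e hn hnC
  have hcard : Nat.card φ.range = 3 := by rw [← Subgroup.index_ker, hidx]
  have h3 : φ ⟨n, hn⟩ ^ 3 = 1 := alpha_pow_three P hm e hn hnC
  set a : φ.range := ⟨φ ⟨n, hn⟩, ⟨_, rfl⟩⟩ with ha
  have ha1 : a ≠ 1 := by
    intro h
    have h1 : φ ⟨n, hn⟩ = 1 := congrArg Subtype.val h
    have h2 : (⟨n, hn⟩ : Subgroup.normalizer ((P : Subgroup G) : Set G)) ∈ φ.ker :=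
      MonoidHom.mem_ker.mpr h1
    rw [hφ, hker, Subgroup.mem_subgroupOf] at h2
    exact hnC h2
  have htop := zpowers_eq_top_of_prime_card hcard ha1
  have hmem : (⟨φ y, ⟨_, rfl⟩⟩ : φ.range) ∈ Subgroup.zpowers a := by rw [htop]; trivial
  obtain ⟨k, hk⟩ := Subgroup.mem_zpowers_iff.mp hmem
  have hk' : φ ⟨n, hn⟩ ^ k = φ y := by
    have := congrArg Subtype.val hk
    simpa using this
  have hdecomp : φ ⟨n, hn⟩ ^ k = φ ⟨n, hn⟩ ^ (k % 3) := by
    conv_lhs => rw [← Int.mul_ediv_add_emod k 3]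
    rw [zpow_add, zpow_mul]
    have : φ ⟨n, hn⟩ ^ (3 : ℤ) = 1 := by
      have := h3
      rw [← zpow_natCast] at this
      exact_mod_cast this
    rw [this, one_zpow, one_mul]
  rw [hdecomp] at hk'
  have hr0 : 0 ≤ k % 3 := Int.emod_nonneg k (by norm_num)
  have hr3 : k % 3 < 3 := Int.emod_lt_of_pos k (by norm_num)
  obtain ⟨r, hr⟩ : ∃ r : ℤ, r = k % 3 := ⟨_, rfl⟩
  rw [← hr] at hk' hr0 hr3
  interval_cases r
  · left
    rw [← hk', zpow_zero]
  · right; left
    rw [← hk', zpow_one]
  · right; right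
    rw [← hk']
    exact zpow_two _

include hm e hnC in
theorem fusion (u u' : ↥(P : Subgroup G)) :
    IsConj (u : G) (u' : G) ↔
      (u' = u ∨ u' = alpha P hn u ∨ u' = alpha P hn (alpha P hn u)) := by
  haveI : Fact (Nat.Prime 2) := ⟨Nat.prime_two⟩
  constructor
  · intro h
    obtain ⟨g, hg⟩ := isConj_iff.mp h
    have hPc := comm_of_equiv e
    haveI : IsMulCommutative (P : Subgroup G) :=
      ⟨⟨fun a b => Subtype.ext (hPc a a.2 b b.2)⟩⟩
    obtain ⟨x, hx, hxe⟩ := P.conj_eq_normalizer_conj_of_mem (u : G) g⁻¹ u.2 (by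
      rw [inv_inv, hg]
      exact u'.2)
    rw [inv_inv, hg] at hxe
    have hxinv : x⁻¹ ∈ Subgroup.normalizer ((P : Subgroup G) : Set G) := inv_mem hx
    have hval : ∀ w : ↥(P : Subgroup G),
        (((P : Subgroup G).normalizerMonoidHom ⟨x⁻¹, hxinv⟩ w : ↥(P : Subgroup G)) : G) =
          x⁻¹ * w * x⁻¹⁻¹ := fun w => rfl
    have hu' : u' = (P : Subgroup G).normalizerMonoidHom ⟨x⁻¹, hxinv⟩ u := by
      apply Subtype.ext
      rw [hval, inv_inv, hxe]
    rcases range_cases P hm e hn hnC ⟨x⁻¹, hxinv⟩ with h1 | h1 | h1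
    · left
      rw [hu', h1]
      rfl
    · right; left
      rw [hu', h1]
      rfl
    · right; right
      rw [hu', h1]
      rfl
  · rintro (h | h | h)
    · rw [h]
    · rw [h, alpha_coe]
      exact isConj_iff.mpr ⟨n, rfl⟩
    · rw [h, alpha_coe, alpha_coe]
      exact isConj_iff.mpr ⟨n * n, by group⟩

end Cfsg.Agent.H2.Hom2
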