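import Mathlib
import Cfsg.Prelude.Def_Solvable
import Cfsg.Agent.H1.Cores
import Cfsg.Agent.H2.HomocyclicSylow
import Cfsg.Agent.H2.Hom2.A2

set_option autoImplicit false
set_option linter.style.haveILetI false
set_option linter.unusedSectionVars false
set_option linter.unusedVariables false

/-!
# Homocyclic Sylow 2-subgroups of rank two: centralizers of the elements of the Sylow subgroup
have normal 2-complements
-/

namespace Cfsg.Agent.H2.Hom2

open Cfsg Cfsg.Agent.H2.Homocyc

universe u

variable {G : Type u} [Group G] [Finite G] (P : Sylow 2 G) {m : ℕ} (hm : 1 ≤ m)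
  (e : (P : Subgroup G) ≃* Multiplicative (ZMod (2 ^ m) × ZMod (2 ^ m)))

include hm e in
/-- The centralizer of a nonidentity element of `P` has a normal `2`-complement (Burnside). -/
theorem core_index_centralizer (u : G) (hu : u ∈ (P : Subgroup G)) (hu1 : u ≠ 1) :
    ∃ k : ℕ, (Cfsg.pPrimeCore 2 ↥(Subgroup.centralizer ({u} : Set G))).index = 2 ^ k := by
  classical
  haveI : Fact (Nat.Prime 2) := ⟨Nat.prime_two⟩
  have hPc := comm_of_equiv e
  set H : Subgroup G := Subgroup.centralizer ({u} : Set G) with hH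
  have hPH : (P : Subgroup G) ≤ H := by
    intro x hx
    rw [hH, Subgroup.mem_centralizer_iff]
    intro y hy
    rw [Set.mem_singleton_iff] at hy
    subst hy
    exact hPc y hu x hx
  let Q : Sylow 2 H := P.subtype hPH
  have hQ : ((Q : Subgroup H)) = (P : Subgroup G).subgroupOf H := rfl
  have h21 := (index_one_or_three P m hm e).2 u hu hu1
  have hNC : Subgroup.normalizer ((Q : Subgroup H) : Set H) ≤
      Subgroup.centralizer ((Q : Subgroup H) : Set H) := by
    intro x hx
    -- `x` normalizes `P` in `G`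
    have hxN : (x : G) ∈ Subgroup.normalizer ((P : Subgroup G) : Set G) := by
      rw [Subgroup.mem_normalizer_iff]
      intro y
      constructor
      · intro hy
        have h1 := (Subgroup.mem_normalizer_iff.mp hx ⟨y, hPH hy⟩).mp
          (show (⟨y, hPH hy⟩ : H) ∈ (P : Subgroup G).subgroupOf H from
            Subgroup.mem_subgroupOf.mpr hy)
        exact Subgroup.mem_subgroupOf.mp h1
      · intro hy
        -- `y = x⁻¹ (x y x⁻¹) x`
        have hxinv : x⁻¹ ∈ Subgroup.normalizer ((Q : Subgroup H) : Set H) := inv_mem hx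
        have hmem : (x : G) * y * (x : G)⁻¹ ∈ H := hPH hy
        have h1 := (Subgroup.mem_normalizer_iff.mp hxinv ⟨(x : G) * y * (x : G)⁻¹, hmem⟩).mp
          (show (⟨(x : G) * y * (x : G)⁻¹, hmem⟩ : H) ∈ (P : Subgroup G).subgroupOf H from
            Subgroup.mem_subgroupOf.mpr hy)
        have h1 := Subgroup.mem_subgroupOf.mp h1
        have h2 : (((x⁻¹ * ⟨(x : G) * y * (x : G)⁻¹, hmem⟩ * x⁻¹⁻¹ : H)) : G) = y := by
          simp only [Subgroup.coe_mul, Subgroup.coe_inv, inv_inv]
          group
        rw [h2] at h1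
        exact h1
    have hxC : (x : G) ∈ Subgroup.centralizer ((P : Subgroup G) : Set G) := by
      rw [← h21]
      exact ⟨x.2, hxN⟩
    rw [Subgroup.mem_centralizer_iff]
    intro y hy
    have hy' : (y : G) ∈ (P : Subgroup G) := Subgroup.mem_subgroupOf.mp hy
    have := (Subgroup.mem_centralizer_iff.mp hxC) (y : G) hy'
    exact Subtype.ext this
  set K : Subgroup H := (MonoidHom.transferSylow Q hNC).ker with hK
  haveI hKn : K.Normal := by rw [hK]; infer_instance
  have hcomp : Subgroup.IsComplement' K (Q : Subgroup H) :=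
    MonoidHom.ker_transferSylow_isComplement' Q hNC
  have h3 : (Q : Subgroup H).index = Nat.card K := hcomp.index_eq_card
  have h4 : ¬ 2 ∣ Nat.card K := by rw [← h3]; exact Q.not_dvd_index
  have hKle : K ≤ Cfsg.pPrimeCore 2 ↥H := by
    apply Cfsg.Agent.H1.le_pPrimeCore hKn
    rw [Nat.coprime_comm, Nat.Prime.coprime_iff_not_dvd Nat.prime_two]
    exact h4
  have hidx : K.index = Nat.card (Q : Subgroup H) := hcomp.symm.index_eq_card
  obtain ⟨k, hk⟩ := IsPGroup.iff_card.mp Q.2
  have hdvd : (Cfsg.pPrimeCore 2 ↥H).index ∣ 2 ^ k := by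
    rw [← hk, ← hidx]
    exact Subgroup.index_dvd_of_le hKle
  obtain ⟨j, -, hj⟩ := (Nat.dvd_prime_pow Nat.prime_two).mp hdvd
  exact ⟨j, hj⟩

end Cfsg.Agent.H2.Hom2
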