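import Mathlib
import Cfsg.Prelude.Def_Solvable
import Cfsg.Prelude.Def_Characters
import Cfsg.Agent.H1.Cores
import Cfsg.Agent.H2.HomocyclicSylow
import Cfsg.Agent.H2.PPrimeCore
import Cfsg.Agent.Lib.helper3.Lin

set_option autoImplicit false
set_option linter.style.haveILetI false
set_option linter.unusedSectionVars false
set_option linter.unusedVariables false

/-!
# Homocyclic Sylow 2-subgroups of rank two: the induction step through the kernel of a linear
character
-/

namespace Cfsg.Agent.H2.Hom2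

open Cfsg Cfsg.Agent.H2.Homocyc

universe u

variable {G : Type u} [Group G] [Finite G]

/-- The statement proved by induction. -/
def Concl (G : Type u) [Group G] (m : ℕ) : Prop :=
  ∀ (P : Sylow 2 G) (_ : (P : Subgroup G) ≃* Multiplicative (ZMod (2 ^ m) × ZMod (2 ^ m))),
    Cfsg.pPrimeCore 2 G = ⊥ → (P : Subgroup G).Normal

/-- A normal Sylow subgroup of a normal subgroup is normal. -/
theorem normal_of_normal_subgroupOf {p : ℕ} [Fact p.Prime] (P : Sylow p G) (N : Subgroup G)
    [hN : N.Normal] (hPN : (P : Subgroup G) ≤ N)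
    (hnorm : ((P.subtype hPN : Sylow p N) : Subgroup N).Normal) : (P : Subgroup G).Normal := by
  constructor
  intro x hx g
  -- the conjugate of `P` by `g`, inside `N`
  have hmemN : ∀ y ∈ (P : Subgroup G), g * y * g⁻¹ ∈ N := fun y hy => hN.conj_mem y (hPN hy) g
  let R : Subgroup N := ((P : Subgroup G).map (MulAut.conj g).toMonoidHom).subgroupOf N
  have hR : IsPGroup p R := by
    have h1 : IsPGroup p ((P : Subgroup G).map (MulAut.conj g).toMonoidHom) := P.2.map _
    exact h1.comap_of_injective N.subtype N.subtype_injective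
  haveI := hnorm
  obtain ⟨Q, hQ⟩ := hR.exists_le_sylow
  obtain ⟨c, hc⟩ := MulAction.exists_smul_eq N (P.subtype hPN) Q
  have hQP : Q = P.subtype hPN := by
    rw [← hc]
    exact Sylow.smul_eq_of_normal
  have hmem : (⟨g * x * g⁻¹, hmemN x hx⟩ : N) ∈ R := by
    show g * x * g⁻¹ ∈ (P : Subgroup G).map (MulAut.conj g).toMonoidHom
    exact ⟨x, hx, rfl⟩
  have h2 := hQ hmem
  rw [hQP] at h2
  exact Subgroup.mem_subgroupOf.mp h2

/-- The induction step: a nonprincipal linear character trivial on `P`. -/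
theorem normal_of_linear {m : ℕ}
    (IH : ∀ (H : Type u) [Group H] [Finite H], Nat.card H < Nat.card G → Concl H m)
    (P : Sylow 2 G) (e : (P : Subgroup G) ≃* Multiplicative (ZMod (2 ^ m) × ZMod (2 ^ m)))
    (hO : Cfsg.pPrimeCore 2 G = ⊥) (χ : G → ℂ) (hχ : IsCharacter G χ) (hχ1 : χ 1 = 1)
    (hne : ∃ g, χ g ≠ 1) (hP : ∀ u ∈ (P : Subgroup G), χ u = 1) : (P : Subgroup G).Normal := by
  classical
  haveI : Fact (Nat.Prime 2) := ⟨Nat.prime_two⟩
  set φ : G →* ℂ := Cfsg.Agent.Lib.helper3.Lin.toHom hχ hχ1 with hφ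
  set N : Subgroup G := φ.ker with hN
  haveI hNn : N.Normal := by rw [hN]; infer_instance
  have hPN : (P : Subgroup G) ≤ N := by
    intro x hx
    rw [hN, MonoidHom.mem_ker]
    exact hP x hx
  have hNtop : N ≠ ⊤ := by
    intro h
    obtain ⟨g, hg⟩ := hne
    apply hg
    have : g ∈ N := by rw [h]; trivial
    rw [hN, MonoidHom.mem_ker] at this
    exact this
  have hcard : Nat.card N < Nat.card G := by
    have h1 := Subgroup.card_mul_index N
    have h2 : N.index ≠ 1 := fun h => hNtop (Subgroup.index_eq_one.mp h)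
    have h3 : N.index ≠ 0 := Subgroup.index_ne_zero_of_finite
    have h4 : 0 < Nat.card N := Nat.card_pos
    nlinarith [h1, Nat.two_le_iff N.index |>.mpr ⟨h3, h2⟩]
  have hON : Cfsg.pPrimeCore 2 ↥N = ⊥ := by
    have h1 := Cfsg.Agent.H2.pPrimeCore_map_subtype_le_of_isSubnormal 2 hNn.isSubnormal
    rw [hO, le_bot_iff, Subgroup.map_eq_bot_iff_of_injective _ N.subtype_injective] at h1
    exact h1
  have e1 : ((P.subtype hPN : Sylow 2 N) : Subgroup N) ≃*
      Multiplicative (ZMod (2 ^ m) × ZMod (2 ^ m)) :=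
    (Subgroup.subgroupOfEquivOfLe hPN).trans e
  have hnorm := IH N hcard (P.subtype hPN) e1 hON
  exact normal_of_normal_subgroupOf P N hPN hnorm

end Cfsg.Agent.H2.Hom2
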