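import Mathlib
import Cfsg.Prelude.Def_Blocks
import Cfsg.Agent.S4722
import Cfsg.Agent.H2.PF6.B
import Cfsg.Agent.H2.Hom2.C4

set_option autoImplicit false
set_option linter.style.haveILetI false
set_option linter.unusedSectionVars false
set_option linter.unusedVariables false

/-!
# Homocyclic Sylow 2-subgroups of rank two: the column relation (4d)
-/

namespace Cfsg.Agent.H2.Hom2

open Cfsg Cfsg.Agent.Lib.helper3.Block Cfsg.Agent.Lib.helper3.Irr
open Cfsg.Agent.Lib.helper3.CharBasic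
open scoped ComplexConjugate

universe u

section general

variable {K : Type*} [Group K]

theorem exists_sq_ne_one {m : ℕ} (hm : 2 ≤ m)
    (e : K ≃* Multiplicative (ZMod (2 ^ m) × ZMod (2 ^ m))) : ∃ x : K, x * x ≠ 1 := by
  refine ⟨e.symm (Multiplicative.ofAdd (1, 0)), fun h => ?_⟩
  have h1 : e (e.symm (Multiplicative.ofAdd (1, 0)) * e.symm (Multiplicative.ofAdd (1, 0))) = 1 := by
    rw [h, map_one]
  rw [map_mul, e.apply_symm_apply, ← ofAdd_add] at h1
  have h2 : (((1 : ZMod (2 ^ m)), (0 : ZMod (2 ^ m))) + (1, 0)) = 0 :=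
    Multiplicative.ofAdd.injective h1
  have h3 : (1 : ZMod (2 ^ m)) + 1 = 0 := congrArg Prod.fst h2
  have h4 : ((2 : ℕ) : ZMod (2 ^ m)) = 0 := by
    rw [← h3]; norm_num
  rw [ZMod.natCast_eq_zero_iff] at h4
  have h5 : 4 ≤ 2 ^ m := by
    calc 4 = 2 ^ 2 := rfl
      _ ≤ 2 ^ m := Nat.pow_le_pow_right (by norm_num) hm
  have h6 := Nat.le_of_dvd (by norm_num) h4
  omega

theorem exists_l0 [Fintype K] (hcomm : ∀ a b : K, a * b = b * a)
    (hx : ∃ x : K, x * x ≠ 1) :
    ∃ l0 : IrrCharacter K, l0 ≠ oneC ∧ ∀ w : K, w * w = 1 → (l0 : K → ℂ) w = 1 := by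
  classical
  obtain ⟨x, hx⟩ := hx
  let V : Subgroup K :=
    { carrier := {w | w * w = 1}
      mul_mem' := by
        intro a b ha hb
        rw [Set.mem_ofPred_eq] at ha hb ⊢
        calc a * b * (a * b) = a * (b * a) * b := by group
          _ = a * (a * b) * b := by rw [hcomm b a]
          _ = (a * a) * (b * b) := by group
          _ = 1 := by rw [ha, hb, one_mul]
      one_mem' := by
        rw [Set.mem_ofPred_eq, one_mul]
      inv_mem' := by
        intro a ha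
        rw [Set.mem_ofPred_eq] at ha ⊢
        rw [← mul_inv_rev, ha, inv_one] }
  haveI : V.Normal := by
    constructor
    intro n hn g
    have : g * n * g⁻¹ = n := by rw [hcomm g n, mul_inv_cancel_right]
    rw [this]; exact hn
  haveI : Group.IsSolvable K := Group.isSolvable_of_comm hcomm
  have hV : V ≠ ⊤ := by
    intro h
    have : x ∈ V := by rw [h]; exact Subgroup.mem_top x
    exact hx this
  obtain ⟨θ, hθ, hθ1, hθne⟩ := Cfsg.Agent.H2.PF6.exists_linear_irrAbove V hV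
  refine ⟨θ, ?_, ?_⟩
  · intro h
    apply hθne
    rw [h]
    rfl
  · intro w hw
    rw [Cfsg.Agent.H2.PF6.mem_irrAbove] at hθ
    rw [hθ w hw, hθ1]

theorem coeff_eq [Fintype K] (φ l0 : K → ℂ) (hl0 : IsCharacter K l0) :
    (Nat.card K : ℂ)⁻¹ * ∑ᶠ y : K, φ y * (l0 y⁻¹ - 1) =
      classInner φ l0 - classInner φ (fun _ => 1) := by
  unfold classInner
  rw [finsum_eq_sum_of_fintype, ← mul_sub, ← Finset.sum_sub_distrib]
  congr 1
  apply Finset.sum_congr rfl
  intro y _
  rw [isCharacter_apply_inv hl0, map_one, mul_sub]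

end general

variable {G : Type u} [Group G] [Finite G]

/-- With abelian Sylow `2`-subgroups, a `2`-element inverted by an involution is an involution. -/
theorem sq_eq_one_of_inverted (P : Sylow 2 G)
    (hPc : ∀ x ∈ (P : Subgroup G), ∀ y ∈ (P : Subgroup G), x * y = y * x)
    {s w : G} (hs : s * s = 1) (hw : w ∈ (P : Subgroup G)) (hinv : s * w * s⁻¹ = w⁻¹) :
    w * w = 1 := by
  haveI : Fact (Nat.Prime 2) := ⟨Nat.prime_two⟩
  have hs2 : IsPGroup 2 (Subgroup.zpowers s) := by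
    rintro ⟨g, hg⟩
    obtain ⟨k, rfl⟩ := Subgroup.mem_zpowers_iff.mp hg
    refine ⟨1, Subtype.ext ?_⟩
    simp only [pow_one, Subgroup.coe_pow, Subgroup.coe_one]
    rw [← zpow_natCast, ← zpow_mul, mul_comm, zpow_mul, zpow_natCast, pow_two, hs, one_zpow]
  have hw2 : IsPGroup 2 (Subgroup.zpowers w) := IsPGroup.to_le P.2 (Subgroup.zpowers_le.mpr hw)
  have hconj : ∀ x ∈ Subgroup.zpowers w, s * x * s⁻¹ ∈ Subgroup.zpowers w := by
    intro x hx
    obtain ⟨k, rfl⟩ := Subgroup.mem_zpowers_iff.mp hx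
    have : s * w ^ k * s⁻¹ = (w⁻¹) ^ k := by
      rw [← hinv, conj_zpow]
    rw [this]
    exact Subgroup.zpow_mem _ (Subgroup.inv_mem _ (Subgroup.mem_zpowers w)) k
  have hnorm : Subgroup.zpowers s ≤ Subgroup.normalizer ((Subgroup.zpowers w : Subgroup G) : Set G) := by
    rw [Subgroup.zpowers_le, Subgroup.mem_normalizer_iff]
    intro x
    refine ⟨hconj x, fun hx => ?_⟩
    have h1 := hconj _ hx
    have h2 : s * (s * x * s⁻¹) * s⁻¹ = x := by
      calc s * (s * x * s⁻¹) * s⁻¹ = (s * s) * x * (s * s)⁻¹ := by group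
        _ = x := by rw [hs, one_mul, inv_one, mul_one]
    rwa [h2] at h1
  have hD : IsPGroup 2 (Subgroup.zpowers s ⊔ Subgroup.zpowers w : Subgroup G) :=
    IsPGroup.to_sup_of_normal_right' hs2 hw2 hnorm
  obtain ⟨Q, hQ⟩ := hD.exists_le_sylow
  have hsQ : s ∈ (Q : Subgroup G) := hQ (Subgroup.mem_sup_left (Subgroup.mem_zpowers s))
  have hwQ : w ∈ (Q : Subgroup G) := hQ (Subgroup.mem_sup_right (Subgroup.mem_zpowers w))
  have hQc : ∀ x y : ↥(Q : Subgroup G), x * y = y * x := by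
    intro x y
    apply (Sylow.equiv Q P).injective
    rw [map_mul, map_mul]
    exact Subtype.ext (hPc _ (Sylow.equiv Q P x).2 _ (Sylow.equiv Q P y).2)
  have hsw : s * w = w * s := congrArg Subtype.val (hQc ⟨s, hsQ⟩ ⟨w, hwQ⟩)
  have h3 : w = w⁻¹ := by
    rw [← hinv, hsw, mul_inv_cancel_right]
  exact mul_eq_one_iff_eq_inv.mpr h3

/-- (4d): the column relation from the class multiplication constants. -/
theorem four_d {M : Ideal AlgInt} (hM : IsPModular 2 M) (P : Sylow 2 G)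
    (hPc : ∀ x ∈ (P : Subgroup G), ∀ y ∈ (P : Subgroup G), x * y = y * x)
    (l0 : ↥(P : Subgroup G) → ℂ) (hl0 : IsCharacter ↥(P : Subgroup G) l0)
    (hl0V : ∀ w : ↥(P : Subgroup G), w * w = 1 → l0 w = 1)
    (z : ↥(P : Subgroup G)) (hz : z ≠ 1) (hzz : z * z = 1) :
    ∑ᶠ χ ∈ principalBlock M G,
      ((Nat.card ↥(P : Subgroup G) : ℂ)⁻¹ * ∑ᶠ y : ↥(P : Subgroup G),
        (χ : G → ℂ) (y : G) * (l0 y⁻¹ - 1)) * (χ : G → ℂ) (z : G) ^ 2 / (χ : G → ℂ) 1 = 0 := by
  haveI : Fact (Nat.Prime 2) := ⟨Nat.prime_two⟩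
  have ht : orderOf (z : G) = 2 := by
    apply orderOf_eq_prime
    · rw [pow_two]
      exact congrArg Subtype.val hzz
    · intro h
      exact hz (Subtype.ext h)
  have hinv : ∀ u ∈ {w : G | w ∈ (P : Subgroup G) ∧ w * w ≠ 1}, ∀ g : G,
      (g * (z : G) * g⁻¹) * u * (g * (z : G) * g⁻¹)⁻¹ ≠ u⁻¹ := by
    rintro u ⟨huP, huu⟩ g hcontra
    apply huu
    refine sq_eq_one_of_inverted P hPc (s := g * (z : G) * g⁻¹) ?_ huP hcontra
    have hzz' : (z : G) * (z : G) = 1 := congrArg Subtype.val hzz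
    calc g * (z : G) * g⁻¹ * (g * (z : G) * g⁻¹) = g * ((z : G) * (z : G)) * g⁻¹ := by group
      _ = 1 := by rw [hzz', mul_one, mul_inv_cancel]
  have hθ : IsGeneralizedCharacter ↥(P : Subgroup G) (fun y => l0 y - 1) := by
    refine ⟨l0, fun _ => 1, hl0, isCharacter_of_isIrrCharacter isIrrCharacter_one, ?_⟩
    funext y
    rfl
  have hθU : ∀ y : ↥(P : Subgroup G),
      (y : G) ∉ {w : G | w ∈ (P : Subgroup G) ∧ w * w ≠ 1} → (fun y => l0 y - 1) y = 0 := by
    intro y hy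
    have hyy : y * y = 1 := by
      by_contra hne
      apply hy
      refine ⟨y.2, fun h => hne (Subtype.ext h)⟩
    show l0 y - 1 = 0
    rw [hl0V y hyy, sub_self]
  exact (Cfsg.Agent.S4722.result M hM (P : Subgroup G) P.2
    {w : G | w ∈ (P : Subgroup G) ∧ w * w ≠ 1} (fun w hw => hw.1) (z : G) ht hinv
    (fun y => l0 y - 1) hθ hθU).1

end Cfsg.Agent.H2.Hom2
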