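import Mathlib
import Cfsg.Prelude.Def_Characters
import Cfsg.Agent.H2.Hom2.C5

set_option autoImplicit false
set_option linter.style.haveILetI false
set_option linter.unusedSectionVars false
set_option linter.unusedVariables false

/-!
# The orbit count, the existence of five orbits, and the final arithmetic
-/

namespace Cfsg.Agent.H2.Hom2

open Cfsg Cfsg.Agent.Lib.helper3.Irr Cfsg.Agent.Lib.helper3.IndFun
open Cfsg.Agent.Lib.helper3.CharBasic
open scoped ComplexConjugate

section kk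

variable {P : Type*} [Group P] [Fintype P] {α : P ≃* P}
  (hcomm : ∀ a b : P, a * b = b * a) (hα3 : ∀ u, α (α (α u)) = u)
  (hfpf : ∀ u, α u = u → u = 1)

include hα3 in
theorem kk_oneC_oneC : kk α (oneC : IrrCharacter P) oneC = 3 := by
  unfold kk
  rw [act_oneC, act_oneC]
  simp

include hα3 in
theorem kk_oneC_left {m : IrrCharacter P} (hm : m ≠ oneC) : kk α oneC m = 0 := by
  unfold kk
  rw [if_neg hm, if_neg (act_ne_oneC hα3 hm), if_neg (act_ne_oneC hα3 (act_ne_oneC hα3 hm))]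
  norm_num

include hα3 in
theorem kk_oneC_right {l : IrrCharacter P} (hl : l ≠ oneC) : kk α l oneC = 0 := by
  unfold kk
  rw [act_oneC, act_oneC, if_neg (fun h => hl h.symm)]
  norm_num

include hcomm hα3 hfpf in
theorem kk_eq_ite {l m : IrrCharacter P} (hm : m ≠ oneC) :
    kk α l m = if (m = l ∨ act α m = l ∨ act α (act α m) = l) then 1 else 0 := by
  unfold kk
  by_cases h1 : m = l
  · subst h1
    rw [if_pos rfl, if_neg (act_ne hcomm hfpf hm), if_neg (act_act_ne hcomm hα3 hfpf hm)]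
    simp
  · by_cases h2 : act α m = l
    · subst h2
      have h3 : act α (act α m) ≠ act α m := act_ne hcomm hfpf (act_ne_oneC hα3 hm)
      rw [if_neg h1, if_pos rfl, if_neg h3]
      simp
    · by_cases h3 : act α (act α m) = l
      · rw [if_neg h1, if_neg h2, if_pos h3]
        simp [h3]
      · rw [if_neg h1, if_neg h2, if_neg h3]
        simp [h1, h2, h3]

include hα3 in
theorem sum_kk_mul (l : IrrCharacter P) (g : IrrCharacter P → ℂ) :
    ∑ m, ((kk α l m : ℤ) : ℂ) * g m = g l + g (act α (act α l)) + g (act α l) := by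
  classical
  have h1 : ∀ m : IrrCharacter P, (act α m = l) ↔ (m = act α (act α l)) := by
    intro m
    constructor
    · intro h
      rw [← h, act_act_act hα3]
    · intro h
      rw [h, act_act_act hα3]
  have h2 : ∀ m : IrrCharacter P, (act α (act α m) = l) ↔ (m = act α l) := by
    intro m
    constructor
    · intro h
      rw [← h, act_act_act hα3]
    · intro h
      rw [h, act_act_act hα3]
  have h3 : ∀ m, ((kk α l m : ℤ) : ℂ) * g m = (if m = l then g m else 0) +
      (if m = act α (act α l) then g m else 0) + (if m = act α l then g m else 0) := by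
    intro m
    unfold kk
    simp only [h2 m]
    simp only [h1 m]
    push_cast
    split_ifs <;> ring
  rw [Finset.sum_congr rfl (fun m _ => h3 m), Finset.sum_add_distrib, Finset.sum_add_distrib,
    Finset.sum_ite_eq', Finset.sum_ite_eq', Finset.sum_ite_eq']
  simp

end kk

section five

theorem exists_five {Λ : Type*} [Fintype Λ] [DecidableEq Λ] (r : Λ → Λ → Prop) [DecidableRel r]
    (hcard : ∀ l, (Finset.univ.filter (fun m => r l m)).card ≤ 3)
    (h13 : 13 ≤ Fintype.card Λ) :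
    ∃ l1 l2 l3 l4 l5 : Λ, ¬ r l1 l2 ∧ ¬ r l1 l3 ∧ ¬ r l1 l4 ∧ ¬ r l1 l5 ∧ ¬ r l2 l3 ∧ ¬ r l2 l4 ∧
      ¬ r l2 l5 ∧ ¬ r l3 l4 ∧ ¬ r l3 l5 ∧ ¬ r l4 l5 := by
  set N : Λ → Finset Λ := fun l => Finset.univ.filter (fun m => r l m) with hN
  have hcardN : ∀ l, (N l).card ≤ 3 := hcard
  have hmem : ∀ l m, m ∉ N l → ¬ r l m := by
    intro l m h hr
    apply h
    rw [hN]
    exact Finset.mem_filter.mpr ⟨Finset.mem_univ _, hr⟩
  have hpick : ∀ S : Finset Λ, S.card < 13 → ∃ x, x ∉ S := by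
    intro S hS
    have : S.card < (Finset.univ : Finset Λ).card := by
      rw [Finset.card_univ]; omega
    obtain ⟨x, -, hx⟩ := Finset.exists_mem_notMem_of_card_lt_card this
    exact ⟨x, hx⟩
  obtain ⟨l1, -⟩ := hpick ∅ (by simp)
  obtain ⟨l2, h2⟩ := hpick (N l1) (by have := hcardN l1; omega)
  obtain ⟨l3, h3⟩ := hpick (N l1 ∪ N l2) (by
    have := Finset.card_union_le (N l1) (N l2)
    have := hcardN l1
    have := hcardN l2
    omega)
  obtain ⟨l4, h4⟩ := hpick (N l1 ∪ N l2 ∪ N l3) (by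
    have := Finset.card_union_le (N l1 ∪ N l2) (N l3)
    have := Finset.card_union_le (N l1) (N l2)
    have := hcardN l1
    have := hcardN l2
    have := hcardN l3
    omega)
  obtain ⟨l5, h5⟩ := hpick (N l1 ∪ N l2 ∪ N l3 ∪ N l4) (by
    have := Finset.card_union_le (N l1 ∪ N l2 ∪ N l3) (N l4)
    have := Finset.card_union_le (N l1 ∪ N l2) (N l3)
    have := Finset.card_union_le (N l1) (N l2)
    have := hcardN l1
    have := hcardN l2
    have := hcardN l3
    have := hcardN l4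
    omega)
  simp only [Finset.mem_union, not_or] at h3 h4 h5
  exact ⟨l1, l2, l3, l4, l5, hmem _ _ h2, hmem _ _ h3.1, hmem _ _ h4.1.1, hmem _ _ h5.1.1.1,
    hmem _ _ h3.2, hmem _ _ h4.1.2, hmem _ _ h5.1.1.2, hmem _ _ h4.2, hmem _ _ h5.1.2,
    hmem _ _ h5.2⟩

end five

section arith

theorem final_arith (a b X : ℤ) (ha : a ≠ 0) (hb : b ≠ 0)
    (ha16 : (16 : ℤ) ∣ a - 1) (hb16 : (16 : ℤ) ∣ b - 1) (hE0 : X = 1 + a + b)
    (hE1 : (a * b + a + b) * X = 9 * (a * b)) : a = 1 ∧ b = 1 := by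
  obtain ⟨k1, hk1⟩ := ha16
  obtain ⟨k2, hk2⟩ := hb16
  obtain ⟨σ, hσ⟩ : ∃ σ : ℤ, σ = a + b := ⟨_, rfl⟩
  obtain ⟨π, hπ⟩ : ∃ π : ℤ, π = a * b := ⟨_, rfl⟩
  have e1 : π * (8 - σ) = σ * (σ + 1) := by
    rw [hE0] at hE1
    have : (π + σ) * (1 + σ) = 9 * π := by
      rw [hσ, hπ]
      linarith [hE1]
    linarith [this]
  have hdvd : (8 - σ) ∣ 72 := by
    have h1 : (8 - σ) ∣ σ * (σ + 1) := ⟨π, by rw [← e1]; ring⟩
    have h2 : σ * (σ + 1) = (8 - σ) * (-σ - 9) + 72 := by ring
    rw [h2] at h1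
    exact (Int.dvd_add_right (Dvd.intro _ rfl)).mp h1
  have ht : 8 - σ = 6 + 16 * (-(k1 + k2)) := by
    rw [hσ]
    linarith
  obtain ⟨k, hk⟩ : ∃ k : ℤ, k = -(k1 + k2) := ⟨_, rfl⟩
  rw [← hk] at ht
  have hle1 : 8 - σ ≤ 72 := Int.le_of_dvd (by norm_num) hdvd
  have hle2 : -(8 - σ) ≤ 72 := Int.le_of_dvd (by norm_num) ((Int.neg_dvd).mpr hdvd)
  have hk_lo : -4 ≤ k := by omega
  have hk_hi : k ≤ 4 := by omega
  rw [ht] at hdvd
  have hk0 : k = 0 := by
    interval_cases k <;> first | rfl | (exfalso; norm_num at hdvd)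
  have hσ2 : σ = 2 := by
    rw [hk0] at ht
    linarith
  have hπ1 : π = 1 := by
    rw [hσ2] at e1
    linarith
  have hb' : b = 2 - a := by rw [hσ] at hσ2; linarith
  have hsq : (a - 1) * (a - 1) = 0 := by
    rw [hπ, hb'] at hπ1
    linarith
  have ha1 : a = 1 := by
    have := mul_self_eq_zero.mp hsq
    linarith
  exact ⟨ha1, by rw [hb', ha1]; norm_num⟩

end arith

end Cfsg.Agent.H2.Hom2
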