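import Mathlib
import Cfsg.Prelude.Def_Characters
import Cfsg.Agent.H2.Hom2.C6
import Cfsg.Agent.Lib.helper3.Irr7

set_option autoImplicit false
set_option linter.style.haveILetI false
set_option linter.unusedSectionVars false
set_option linter.unusedVariables false

/-!
# Sums over the nonprincipal linear characters
-/

namespace Cfsg.Agent.H2.Hom2

open Cfsg Cfsg.Agent.Lib.helper3.Irr Cfsg.Agent.Lib.helper3.IndFun
open Cfsg.Agent.Lib.helper3.CharBasic
open scoped ComplexConjugate

section lam

variable (P : Type*) [Group P] [Fintype P]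

/-- The nonprincipal irreducible characters. -/
abbrev Lam : Type _ := {l : IrrCharacter P // l ≠ oneC}

noncomputable instance : Fintype (Lam P) := Fintype.ofFinite _

noncomputable instance : DecidableEq (Lam P) := Classical.decEq _

variable {P}

theorem sum_irr_split (F : IrrCharacter P → ℂ) :
    ∑ l : IrrCharacter P, F l = F oneC + ∑ l : Lam P, F l.1 := by
  classical
  rw [← Finset.add_sum_erase Finset.univ F (Finset.mem_univ (oneC : IrrCharacter P))]
  congr 1
  symm
  apply Finset.sum_bij (fun (l : Lam P) _ => l.1)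
  · intro l _
    exact Finset.mem_erase.mpr ⟨l.2, Finset.mem_univ _⟩
  · intro l _ m _ h
    exact Subtype.ext h
  · intro l hl
    exact ⟨⟨l, (Finset.mem_erase.mp hl).1⟩, Finset.mem_univ _, rfl⟩
  · intro l _
    rfl

theorem card_lam (hcomm : ∀ a b : P, a * b = b * a) : Fintype.card (Lam P) + 1 = Nat.card P := by
  have h := sum_irr_split (P := P) (fun _ => 1)
  simp only [Finset.sum_const, Finset.card_univ, nsmul_eq_mul, mul_one] at h
  rw [card_irr_of_comm hcomm] at h
  have h' : (Nat.card P : ℂ) = ((Fintype.card (Lam P) + 1 : ℕ) : ℂ) := by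
    rw [h]; push_cast; ring
  exact_mod_cast h'.symm

theorem sum_irr_apply (hcomm : ∀ a b : P, a * b = b * a) {u : P} (hu : u ≠ 1) :
    ∑ l : IrrCharacter P, (l : P → ℂ) u = 0 := by
  have h := (column_orthogonality u (1 : P)).2 (by
    intro h
    apply hu
    exact isConj_one_left.mp h)
  rw [← h]
  apply Finset.sum_congr rfl
  intro l _
  rw [apply_one_eq_one_of_comm hcomm l.2, map_one, mul_one]

theorem sum_lam_apply (hcomm : ∀ a b : P, a * b = b * a) {u : P} (hu : u ≠ 1) :
    ∑ l : Lam P, (l.1 : P → ℂ) u = -1 := by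
  have h := sum_irr_split (P := P) (fun l => (l : P → ℂ) u)
  rw [sum_irr_apply hcomm hu, oneC_apply] at h
  linear_combination -h

theorem sum_lam_kk {α : P ≃* P} (hα3 : ∀ u, α (α (α u)) = u) {l0 : IrrCharacter P}
    (hl0 : l0 ≠ oneC) (g : IrrCharacter P → ℂ) :
    ∑ l : Lam P, ((kk α l0 l.1 : ℤ) : ℂ) * g l.1 =
      g l0 + g (act α (act α l0)) + g (act α l0) := by
  have h := sum_irr_split (P := P) (fun l => ((kk α l0 l : ℤ) : ℂ) * g l)
  rw [sum_kk_mul hα3, kk_oneC_right hα3 hl0] at h
  rw [h]
  push_cast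
  ring

end lam

end Cfsg.Agent.H2.Hom2
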