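import Mathlib
import Cfsg.Prelude.Def_Characters
import Cfsg.Agent.H2.Hom2.C7

set_option autoImplicit false
set_option linter.style.haveILetI false
set_option linter.unusedSectionVars false
set_option linter.unusedVariables false
set_option maxHeartbeats 1600000

/-!
# The main algebraic step: a nonprincipal member restricting trivially
-/

namespace Cfsg.Agent.H2.Hom2

open Cfsg Cfsg.Agent.Lib.helper3.Irr Cfsg.Agent.Lib.helper3.IndFun
open Cfsg.Agent.Lib.helper3.CharBasic
open scoped ComplexConjugate

section main

variable {P : Type*} [Group P] [Fintype P] [DecidableEq P]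
  (hcomm : ∀ a b : P, a * b = b * a)
  {α : P ≃* P} (hα3 : ∀ u, α (α (α u)) = u) (hfpf : ∀ u, α u = u → u = 1)
  {ι : Type*} [Fintype ι] [DecidableEq ι] {f : ι → P → ℂ}
  (hchar : ∀ i, IsCharacter P (f i))
  {d : ι → ℤ} (hd : ∀ i, f i 1 = ((d i : ℤ) : ℂ)) (hdpos : ∀ i, 0 < d i)
  {o : ι} (ho : f o = fun _ => 1)
  {D : ℂ} (hK : KerHyp f α D)

/-- The relation "same orbit" on nonprincipal characters. -/
def rel (α : P ≃* P) (l m : Lam P) : Prop :=
  m.1 = l.1 ∨ act α m.1 = l.1 ∨ act α (act α m.1) = l.1

noncomputable instance (α : P ≃* P) : DecidableRel (rel α) := Classical.decRel _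

include hcomm hα3 hfpf in
theorem kk_eq_rel (l m : Lam P) : kk α l.1 m.1 = if rel α l m then 1 else 0 := by
  rw [kk_eq_ite hcomm hα3 hfpf m.2]
  by_cases h : rel α l m
  · rw [if_pos h]
    exact if_pos h
  · rw [if_neg h]
    exact if_neg h

include hcomm hα3 hfpf in
theorem card_rel_le (l : Lam P) : (Finset.univ.filter (fun m => rel α l m)).card ≤ 3 := by
  classical
  have hsub : Finset.univ.filter (fun m => rel α l m) ⊆
      {l, ⟨act α (act α l.1), act_ne_oneC hα3 (act_ne_oneC hα3 l.2)⟩,
        ⟨act α l.1, act_ne_oneC hα3 l.2⟩} := by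
    intro m hm
    rw [Finset.mem_filter] at hm
    simp only [Finset.mem_insert, Finset.mem_singleton]
    rcases hm.2 with h | h | h
    · left; exact Subtype.ext h
    · right; left
      apply Subtype.ext
      show m.1 = act α (act α l.1)
      rw [← h, act_act_act hα3]
    · right; right
      apply Subtype.ext
      show m.1 = act α l.1
      rw [← h, act_act_act hα3]
  exact (Finset.card_le_card hsub).trans Finset.card_le_three

include hcomm hα3 hfpf hK hchar in
theorem gram_int [Nonempty P] {l0 : IrrCharacter P} (hl0 : l0 ≠ oneC) (l m : IrrCharacter P) :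
    ∑ i, coef hchar i l * coef hchar i m =
      (∑ i, coef hchar i oneC * coef hchar i l0) + kk α l m := by
  have e1 := gram_complex hchar hK hcomm l m
  have e2 := gram_complex hchar hK hcomm oneC l0
  rw [kk_oneC_left hα3 hl0] at e2
  have : ((∑ i, coef hchar i l * coef hchar i m : ℤ) : ℂ) =
      (((∑ i, coef hchar i oneC * coef hchar i l0) + kk α l m : ℤ) : ℂ) := by
    rw [e1]
    push_cast at e2 ⊢
    rw [e2]
    ring
  exact_mod_cast this

include hcomm hK hchar hd in
theorem degree_int [Nonempty P] (l m : IrrCharacter P) :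
    ∑ i, d i * coef hchar i l = ∑ i, d i * coef hchar i m := by
  have e1 := degree_complex hchar hK hcomm d hd l
  have e2 := degree_complex hchar hK hcomm d hd m
  have := e1.trans e2.symm
  exact_mod_cast this

include ho in
theorem coef_o_oneC : coef hchar o oneC = 1 := by
  have h := coef_spec hchar o oneC
  rw [ho] at h
  have h2 : classInner (fun _ : P => (1 : ℂ)) ((oneC : IrrCharacter P) : P → ℂ) = 1 :=
    classInner_one_one
  rw [h2] at h
  exact_mod_cast h

include ho in
theorem coef_o_ne {l : IrrCharacter P} (hl : l ≠ oneC) : coef hchar o l = 0 := by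
  have h := coef_spec hchar o l
  rw [ho] at h
  have h2 : classInner (fun _ : P => (1 : ℂ)) (l : P → ℂ) = 0 := by
    apply irr_classInner_eq_zero isIrrCharacter_one l.2
    intro h'
    apply hl
    apply Subtype.ext
    exact h'.symm
  rw [h2] at h
  exact_mod_cast h

end main

end Cfsg.Agent.H2.Hom2
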