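import Mathlib
import Cfsg.Prelude.Def_Characters
import Cfsg.Agent.H2.Hom2.C8

set_option autoImplicit false
set_option linter.style.haveILetI false
set_option linter.unusedSectionVars false
set_option linter.unusedVariables false
set_option maxHeartbeats 3200000

/-!
# The main algebraic step, conclusion
-/

namespace Cfsg.Agent.H2.Hom2

open Cfsg Cfsg.Agent.Lib.helper3.Irr Cfsg.Agent.Lib.helper3.IndFun
open Cfsg.Agent.Lib.helper3.CharBasic
open scoped ComplexConjugate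

theorem sum_ind_mul_complex {ι : Type*} [Fintype ι] [DecidableEq ι] (A : ι) (g : ι → ℂ) :
    ∑ i, ((ind A i : ℤ) : ℂ) * g i = g A := by
  unfold ind
  have : ∀ i, (((if i = A then 1 else 0 : ℤ)) : ℂ) * g i = if i = A then g i else 0 := by
    intro i
    split_ifs <;> simp
  rw [Finset.sum_congr rfl (fun i _ => this i), Finset.sum_ite_eq' Finset.univ A]
  simp

theorem exists_trivial_restriction {P : Type*} [Group P] [Fintype P] [DecidableEq P]
    (hcomm : ∀ a b : P, a * b = b * a) (h16 : 16 ∣ Nat.card P)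
    {α : P ≃* P} (hα3 : ∀ u, α (α (α u)) = u) (hfpf : ∀ u, α u = u → u = 1)
    {ι : Type*} [Fintype ι] [DecidableEq ι] {f : ι → P → ℂ}
    (hchar : ∀ i, IsCharacter P (f i))
    {d : ι → ℤ} (hd : ∀ i, f i 1 = ((d i : ℤ) : ℂ)) (hdpos : ∀ i, 0 < d i)
    {o : ι} (ho : f o = fun _ => 1)
    {D : ℂ} (hK : KerHyp f α D)
    {z : P} (hz : z ≠ 1) {l0 : IrrCharacter P} (hl0 : l0 ≠ oneC)
    (hl0z : (l0 : P → ℂ) z = 1) (hl0z' : (l0 : P → ℂ) (α z) = 1)
    (hl0z'' : (l0 : P → ℂ) (α (α z)) = 1)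
    (h4d : ∑ i, (classInner (f i) (l0 : P → ℂ) - classInner (f i) (fun _ => 1)) *
      (f i z) ^ 2 / (f i 1) = 0) :
    ∃ i, i ≠ o ∧ f i = fun _ => 1 := by
  classical
  haveI : Nonempty P := ⟨1⟩
  have hqpos : 0 < Nat.card P := Nat.card_pos
  have hq16 : 16 ≤ Nat.card P := Nat.le_of_dvd hqpos h16
  obtain ⟨c, hc⟩ : ∃ c : ℤ, c = ∑ i, coef hchar i oneC * coef hchar i l0 := ⟨_, rfl⟩
  have hgram := gram_int hcomm hα3 hfpf hchar hK hl0
  rw [← hc] at hgram
  have hdegI := degree_int hcomm hchar hd hK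
  -- the Gram hypothesis
  have hGH : GramHyp (rel α) (fun (l : Lam P) i => coef hchar i l.1) d c := by
    refine ⟨?_, hdpos, ?_, ?_, ?_⟩
    · intro l m
      unfold ip
      rw [hgram l.1 m.1, kk_eq_rel hcomm hα3 hfpf l m]
    · intro l m
      unfold ip
      exact hdegI l.1 m.1
    · intro l
      exact Or.inl rfl
    · intro l m hlm
      rcases hlm with h | h | h
      · exact Or.inl h.symm
      · right; right
        rw [← h, act_act_act hα3]
      · right; left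
        rw [← h, act_act_act hα3]
  have hG2 : ∀ l : Lam P, ip (fun i => coef hchar i oneC) (fun i => coef hchar i l.1) = c := by
    intro l
    unfold ip
    rw [hgram oneC l.1, kk_oneC_left hα3 l.2, add_zero]
  have hG3 : ip (fun i => coef hchar i (oneC : IrrCharacter P)) (fun i => coef hchar i oneC) =
      c + 3 := by
    unfold ip
    rw [hgram oneC oneC, kk_oneC_oneC hα3]
  have ho1 : coef hchar o oneC = 1 := coef_o_oneC hchar ho
  have ho2 : ∀ l : Lam P, coef hchar o l.1 = 0 := fun l => coef_o_ne hchar ho l.2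
  have hcardL : 13 ≤ Fintype.card (Lam P) := by
    have := card_lam hcomm (P := P)
    omega
  obtain ⟨l1, l2, l3, l4, l5, h12, h13, h14, h15, h23, h24, h25, h34, h35, h45⟩ :=
    exists_five (rel α) (card_rel_le hcomm hα3 hfpf) hcardL
  obtain ⟨ε, δ, X, Y, Y', s, s', hε, hs, hs', hv, hX, ha1, hYo, hY'o, hYY', hXne, hδo⟩ :=
    hGH.full (fun i => coef hchar i oneC) o hG2 hG3 ho1 ho2 h12 h13 h14 h15 h23 h24 h25 h34 h35 h45
  have hε2 : ε * ε = 1 := by rcases hε with rfl | rfl <;> norm_num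
  have hs2 : s * s = 1 := by rcases hs with rfl | rfl <;> norm_num
  have hs'2 : s' * s' = 1 := by rcases hs' with rfl | rfl <;> norm_num
  -- the general value formula
  have hval : ∀ i u, f i u = ((δ i + ind o i + s * ind Y i + s' * ind Y' i : ℤ) : ℂ) +
      ((δ i : ℂ) * ∑ l : Lam P, (l.1 : P → ℂ) u +
      (ε : ℂ) * ∑ l : Lam P, ((ind (X l) i : ℤ) : ℂ) * (l.1 : P → ℂ) u) := by
    intro i u
    rw [apply_eq_sum_coef hchar i u, sum_irr_split, ha1 i, oneC_apply, mul_one]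
    congr 1
    rw [Finset.mul_sum, Finset.mul_sum, ← Finset.sum_add_distrib]
    apply Finset.sum_congr rfl
    intro l _
    rw [hv l i]
    push_cast
    ring
  -- the sums `T`
  have hT0 : ∀ i, (∀ l : Lam P, X l ≠ i) → ∀ u,
      ∑ l : Lam P, ((ind (X l) i : ℤ) : ℂ) * (l.1 : P → ℂ) u = 0 := by
    intro i hi u
    apply Finset.sum_eq_zero
    intro l _
    rw [ind_ne (fun h => hi l h.symm)]
    simp
  have hTX : ∀ u, ∑ l : Lam P, ((ind (X l) (X ⟨l0, hl0⟩) : ℤ) : ℂ) * (l.1 : P → ℂ) u =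
      (l0 : P → ℂ) u + (l0 : P → ℂ) (α (α u)) + (l0 : P → ℂ) (α u) := by
    intro u
    have h1 : ∀ l : Lam P, ind (X l) (X ⟨l0, hl0⟩) = kk α l0 l.1 := by
      intro l
      have e := kk_eq_rel hcomm hα3 hfpf ⟨l0, hl0⟩ l
      rw [e]
      unfold ind
      by_cases hr : rel α ⟨l0, hl0⟩ l
      · rw [if_pos hr, if_pos ((hX _ _).mpr hr)]
      · rw [if_neg hr, if_neg (fun h => hr ((hX _ _).mp h))]
    rw [Finset.sum_congr rfl (fun l _ => by rw [h1 l])]
    rw [sum_lam_kk hα3 hl0 (fun l => (l : P → ℂ) u)]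
    rfl
  have hsum1 : ∑ l : Lam P, (l.1 : P → ℂ) 1 = ((Nat.card P : ℤ) : ℂ) - 1 := by
    have h1 : ∀ l : Lam P, (l.1 : P → ℂ) 1 = 1 := fun l => apply_one_eq_one_of_comm hcomm l.1.2
    rw [Finset.sum_congr rfl (fun l _ => h1 l), Finset.sum_const, Finset.card_univ, nsmul_eq_mul,
      mul_one]
    have := card_lam hcomm (P := P)
    have h2 : ((Fintype.card (Lam P) : ℕ) : ℂ) + 1 = ((Nat.card P : ℕ) : ℂ) := by exact_mod_cast this
    push_cast
    linear_combination h2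
  have hl01 : (l0 : P → ℂ) 1 = 1 := apply_one_eq_one_of_comm hcomm l0.2
  -- values and degrees at `Y`, `Y'`, `X0`
  have hfY : ∀ u, u ≠ 1 → f Y u = (s : ℂ) := by
    intro u hu
    rw [hval Y u, sum_lam_apply hcomm hu, hT0 Y (fun l => (hXne l).2.1) u, ind_self, ind_ne hYo,
      ind_ne hYY']
    push_cast
    ring
  have hfY' : ∀ u, u ≠ 1 → f Y' u = (s' : ℂ) := by
    intro u hu
    rw [hval Y' u, sum_lam_apply hcomm hu, hT0 Y' (fun l => (hXne l).2.2) u, ind_self,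
      ind_ne hY'o, ind_ne hYY'.symm]
    push_cast
    ring
  have hXo : X ⟨l0, hl0⟩ ≠ o := (hXne _).1
  have hXY : X ⟨l0, hl0⟩ ≠ Y := (hXne _).2.1
  have hXY' : X ⟨l0, hl0⟩ ≠ Y' := (hXne _).2.2
  have hfX : f (X ⟨l0, hl0⟩) z = 3 * (ε : ℂ) := by
    rw [hval _ z, sum_lam_apply hcomm hz, hTX z, ind_ne hXo, ind_ne hXY, ind_ne hXY', hl0z, hl0z',
      hl0z'']
    push_cast
    ring
  have hdY : d Y = (Nat.card P : ℤ) * δ Y + s := by
    have h1 := hval Y 1
    rw [hd Y, hsum1, hT0 Y (fun l => (hXne l).2.1) 1, ind_self, ind_ne hYo, ind_ne hYY'] at h1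
    have h2 : ((d Y : ℤ) : ℂ) = (((Nat.card P : ℤ) * δ Y + s : ℤ) : ℂ) := by
      rw [h1]; push_cast; ring
    exact_mod_cast h2
  have hdY' : d Y' = (Nat.card P : ℤ) * δ Y' + s' := by
    have h1 := hval Y' 1
    rw [hd Y', hsum1, hT0 Y' (fun l => (hXne l).2.2) 1, ind_self, ind_ne hY'o,
      ind_ne hYY'.symm] at h1
    have h2 : ((d Y' : ℤ) : ℂ) = (((Nat.card P : ℤ) * δ Y' + s' : ℤ) : ℂ) := by
      rw [h1]; push_cast; ring
    exact_mod_cast h2
  have hdX : d (X ⟨l0, hl0⟩) = (Nat.card P : ℤ) * δ (X ⟨l0, hl0⟩) + 3 * ε := by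
    have h1 := hval (X ⟨l0, hl0⟩) 1
    rw [hd _, hsum1, hTX 1, ind_ne hXo, ind_ne hXY, ind_ne hXY', map_one, map_one, hl01] at h1
    have h2 : ((d (X ⟨l0, hl0⟩) : ℤ) : ℂ) =
        (((Nat.card P : ℤ) * δ (X ⟨l0, hl0⟩) + 3 * ε : ℤ) : ℂ) := by
      rw [h1]; push_cast; ring
    exact_mod_cast h2
  have hdo : d o = 1 := by
    have h1 := hd o
    rw [ho] at h1
    have h2 : ((d o : ℤ) : ℂ) = ((1 : ℤ) : ℂ) := by rw [← h1]; simp
    exact_mod_cast h2
  -- the relation (E0)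
  have hdiff : ∀ i, coef hchar i oneC - coef hchar i l0 =
      ind o i + s * ind Y i + s' * ind Y' i - ε * ind (X ⟨l0, hl0⟩) i := by
    intro i
    rw [ha1 i, hv ⟨l0, hl0⟩ i]
    ring
  have E0 : d o + s * d Y + s' * d Y' - ε * d (X ⟨l0, hl0⟩) = 0 := by
    have h := hdegI oneC l0
    have h' : ∑ i, (d i * coef hchar i oneC - d i * coef hchar i l0) = 0 := by
      rw [Finset.sum_sub_distrib, h, sub_self]
    have h3 : ∀ i, d i * coef hchar i oneC - d i * coef hchar i l0 =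
        ind o i * d i + s * (ind Y i * d i) + s' * (ind Y' i * d i) -
          ε * (ind (X ⟨l0, hl0⟩) i * d i) := by
      intro i
      rw [← mul_sub, hdiff i]
      ring
    rw [Finset.sum_congr rfl (fun i _ => h3 i), Finset.sum_sub_distrib, Finset.sum_add_distrib,
      Finset.sum_add_distrib, ← Finset.mul_sum, ← Finset.mul_sum, ← Finset.mul_sum,
      sum_ind_mul, sum_ind_mul, sum_ind_mul, sum_ind_mul] at h'
    exact h'
  -- the relation (E1)
  have hdYpos := hdpos Y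
  have hdY'pos := hdpos Y'
  have hdXpos := hdpos (X ⟨l0, hl0⟩)
  have E1 : d Y * d Y' * d (X ⟨l0, hl0⟩) + s * (d Y' * d (X ⟨l0, hl0⟩)) +
      s' * (d Y * d (X ⟨l0, hl0⟩)) - 9 * ε * (d Y * d Y') = 0 := by
    have h3 : ∀ i, (classInner (f i) (l0 : P → ℂ) - classInner (f i) (fun _ => 1)) *
        (f i z) ^ 2 / (f i 1) =
        (ε : ℂ) * (((ind (X ⟨l0, hl0⟩) i : ℤ) : ℂ) * ((f i z) ^ 2 / (f i 1))) -
          ((ind o i : ℤ) : ℂ) * ((f i z) ^ 2 / (f i 1)) -
          (s : ℂ) * (((ind Y i : ℤ) : ℂ) * ((f i z) ^ 2 / (f i 1))) -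
          (s' : ℂ) * (((ind Y' i : ℤ) : ℂ) * ((f i z) ^ 2 / (f i 1))) := by
      intro i
      have e1 : classInner (f i) (l0 : P → ℂ) = ((coef hchar i l0 : ℤ) : ℂ) :=
        (coef_spec hchar i l0).symm
      have e2 : classInner (f i) (fun _ => 1) = ((coef hchar i oneC : ℤ) : ℂ) :=
        (coef_spec hchar i oneC).symm
      have e3 : ((coef hchar i l0 : ℤ) : ℂ) - ((coef hchar i oneC : ℤ) : ℂ) =
          (ε : ℂ) * ((ind (X ⟨l0, hl0⟩) i : ℤ) : ℂ) - ((ind o i : ℤ) : ℂ) -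
            (s : ℂ) * ((ind Y i : ℤ) : ℂ) - (s' : ℂ) * ((ind Y' i : ℤ) : ℂ) := by
        have := hdiff i
        have h5 : ((coef hchar i oneC - coef hchar i l0 : ℤ) : ℂ) =
            ((ind o i + s * ind Y i + s' * ind Y' i - ε * ind (X ⟨l0, hl0⟩) i : ℤ) : ℂ) := by
          rw [this]
        push_cast at h5
        linear_combination -h5
      rw [e1, e2, e3]
      ring
    rw [Finset.sum_congr rfl (fun i _ => h3 i), Finset.sum_sub_distrib, Finset.sum_sub_distrib,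
      Finset.sum_sub_distrib, ← Finset.mul_sum, ← Finset.mul_sum, ← Finset.mul_sum,
      sum_ind_mul_complex, sum_ind_mul_complex, sum_ind_mul_complex, sum_ind_mul_complex,
      hfX, hfY z hz, hfY' z hz, hd, hd, hd, hd, ho] at h4d
    have hY0 : ((d Y : ℤ) : ℂ) ≠ 0 := by exact_mod_cast hdYpos.ne'
    have hY'0 : ((d Y' : ℤ) : ℂ) ≠ 0 := by exact_mod_cast hdY'pos.ne'
    have hX0 : ((d (X ⟨l0, hl0⟩) : ℤ) : ℂ) ≠ 0 := by exact_mod_cast hdXpos.ne'
    have hεc : (ε : ℂ) * (ε : ℂ) = 1 := by exact_mod_cast hε2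
    have hsc : (s : ℂ) * (s : ℂ) = 1 := by exact_mod_cast hs2
    have hs'c : (s' : ℂ) * (s' : ℂ) = 1 := by exact_mod_cast hs'2
    rw [hdo] at h4d
    field_simp at h4d
    have h6 : ((d Y * d Y' * d (X ⟨l0, hl0⟩) + s * (d Y' * d (X ⟨l0, hl0⟩)) +
        s' * (d Y * d (X ⟨l0, hl0⟩)) - 9 * ε * (d Y * d Y') : ℤ) : ℂ) = 0 := by
      push_cast
      simp only [Int.cast_one, mul_one, mul_zero] at h4d
      linear_combination (-1) * h4d -
        ((s : ℂ) * (d Y' : ℂ) * (d (X ⟨l0, hl0⟩) : ℂ)) * hsc -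
        ((s' : ℂ) * (d Y : ℂ) * (d (X ⟨l0, hl0⟩) : ℂ)) * hs'c +
        (9 * (ε : ℂ) * (d Y : ℂ) * (d Y' : ℂ)) * hεc
    exact_mod_cast h6
  -- the arithmetic
  obtain ⟨t16, ht16⟩ : (16 : ℤ) ∣ (Nat.card P : ℤ) := by exact_mod_cast h16
  have hfin := final_arith (s * d Y) (s' * d Y') (ε * d (X ⟨l0, hl0⟩))
    (by
      rcases hs with rfl | rfl
      · simpa using hdYpos.ne'
      · simpa using hdYpos.ne')
    (by
      rcases hs' with rfl | rfl
      · simpa using hdY'pos.ne'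
      · simpa using hdY'pos.ne')
    (by
      refine ⟨s * t16 * δ Y, ?_⟩
      rw [hdY, ht16]
      linear_combination hs2)
    (by
      refine ⟨s' * t16 * δ Y', ?_⟩
      rw [hdY', ht16]
      linear_combination hs'2)
    (by
      rw [hdo] at E0
      linear_combination -E0)
    (by
      linear_combination (s * s' * ε) * E1 -
        (s' * ε * d Y' * d (X ⟨l0, hl0⟩)) * hs2 -
        (s * ε * d Y * d (X ⟨l0, hl0⟩)) * hs'2 +
        (9 * s * s' * d Y * d Y') * hε2)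
  have hs1 : s = 1 ∧ d Y = 1 := by
    rcases hs with rfl | rfl
    · exact ⟨rfl, by linarith [hfin.1]⟩
    · exfalso
      linarith [hfin.1]
  refine ⟨Y, hYo, ?_⟩
  funext u
  by_cases hu : u = 1
  · subst hu
    rw [hd Y, hs1.2]
    simp
  · rw [hfY u hu, hs1.1]
    simp

end Cfsg.Agent.H2.Hom2
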