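import Mathlib
import Cfsg.Prelude.Def_Blocks
import Cfsg.Agent.H2.Hom2.C9
import Cfsg.Agent.H2.Hom2.A2
import Cfsg.Agent.H2.Hom2.A3
import Cfsg.Agent.H2.Hom2.B1
import Cfsg.Agent.H2.Hom2.B2

set_option autoImplicit false
set_option linter.style.haveILetI false
set_option linter.unusedSectionVars false
set_option linter.unusedVariables false
set_option maxHeartbeats 1600000

/-!
# Homocyclic Sylow 2-subgroups of rank two: a nonprincipal linear character trivial on `P`
-/

namespace Cfsg.Agent.H2.Hom2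

open Cfsg Cfsg.Agent.Lib.helper3.Block Cfsg.Agent.Lib.helper3.Irr
open Cfsg.Agent.Lib.helper3.CharBasic Cfsg.Agent.H2.Homocyc
open scoped ComplexConjugate

universe u

variable {G : Type u} [Group G] [Finite G] {M : Ideal AlgInt} (hM : IsPModular 2 M)
  (P : Sylow 2 G) {m : ℕ} (hm : 2 ≤ m)
  (e : (P : Subgroup G) ≃* Multiplicative (ZMod (2 ^ m) × ZMod (2 ^ m)))
  {n : G} (hn : n ∈ Subgroup.normalizer ((P : Subgroup G) : Set G))
  (hnC : n ∉ Subgroup.centralizer ((P : Subgroup G) : Set G))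

theorem finsum_block_eq_sum [Fintype ↥(principalBlock M G)] (F : IrrCharacter G → ℂ) :
    ∑ᶠ ζ ∈ principalBlock M G, F ζ = ∑ i : ↥(principalBlock M G), F i.1 := by
  rw [← finsum_set_coe_eq_finsum_mem, finsum_eq_sum_of_fintype]

/-- The restrictions to `P` of the characters of the principal block. -/
noncomputable def fres (M : Ideal AlgInt) (P : Sylow 2 G) :
    ↥(principalBlock M G) → ↥(P : Subgroup G) → ℂ :=
  fun ζ u => (ζ.1 : G → ℂ) (u : G)

include hM hm e hnC in
theorem kerHyp_principal [Fintype ↥(P : Subgroup G)] [DecidableEq ↥(P : Subgroup G)]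
    [Fintype ↥(principalBlock M G)] :
    KerHyp (fres M P) (alpha P hn) (ker2 (fres M P) 1 1) := by
  intro u u'
  have hPc := comm_of_equiv e
  have hm1 : 1 ≤ m := by omega
  have hker : ker2 (fres M P) u u' =
      ∑ᶠ ζ ∈ principalBlock M G, (ζ : G → ℂ) (u : G) * conj ((ζ : G → ℂ) (u' : G)) := by
    rw [finsum_block_eq_sum]
    rfl
  by_cases hu : u = 1
  · subst hu
    have hα1 : alpha P hn 1 = 1 := map_one _
    by_cases hu' : u' = 1
    · subst hu'
      rw [hα1, hα1, if_pos rfl, if_pos ⟨rfl, rfl⟩]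
      ring
    · have h0 : ker2 (fres M P) 1 u' = 0 := by
        rw [hker]
        apply ker_nonconj hM P _ _ (1 : ↥(P : Subgroup G)).2 u'.2
        rw [Subgroup.coe_one, isConj_one_right]
        intro h
        exact hu' (Subtype.ext h)
      rw [h0, hα1, hα1, if_neg hu', if_neg (fun h => hu' h.2)]
      ring
  · have hd1 : alpha P hn u ≠ u := fun h => hu (alpha_fpf P hm1 e hn hnC u h)
    have hd2 : alpha P hn (alpha P hn u) ≠ alpha P hn u := by
      intro h
      have h1 : alpha P hn u = 1 := alpha_fpf P hm1 e hn hnC _ h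
      exact hu ((alpha P hn).injective (h1.trans (map_one _).symm))
    have hd3 : alpha P hn (alpha P hn u) ≠ u := by
      intro h
      have h1 := congrArg (alpha P hn) h
      rw [alpha_three P hm1 e hn hnC] at h1
      exact hd1 h1.symm
    have hu1 : (u : G) ≠ 1 := fun h => hu (Subtype.ext h)
    rw [if_neg (show ¬(u = 1 ∧ u' = 1) from fun h => hu h.1), add_zero]
    by_cases hc : IsConj (u : G) (u' : G)
    · have h1 : ker2 (fres M P) u u' = (Nat.card ↥(P : Subgroup G) : ℂ) := by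
        rw [hker]
        exact ker_conj hM P hPc _ _ u.2 hu1 hc (core_index_centralizer P hm1 e (u : G) u.2 hu1)
      rw [h1]
      rcases (fusion P hm1 e hn hnC u u').mp hc with h | h | h
      · rw [h, if_pos rfl, if_neg hd1.symm, if_neg hd3.symm]
        ring
      · rw [h, if_neg hd1, if_pos rfl, if_neg hd2.symm]
        ring
      · rw [h, if_neg hd3, if_neg hd2, if_pos rfl]
        ring
    · have h0 : ker2 (fres M P) u u' = 0 := by
        rw [hker]
        exact ker_nonconj hM P _ _ u.2 u'.2 hc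
      have hnf := (not_congr (fusion P hm1 e hn hnC u u')).mp hc
      push_neg at hnf
      rw [h0, if_neg hnf.1, if_neg hnf.2.1, if_neg hnf.2.2]
      ring

include hm e in
theorem sixteen_dvd_card : 16 ∣ Nat.card ↥(P : Subgroup G) := by
  have h1 : Nat.card ↥(P : Subgroup G) = 2 ^ m * 2 ^ m := by
    rw [Nat.card_congr e.toEquiv]
    have : Nat.card (Multiplicative (ZMod (2 ^ m) × ZMod (2 ^ m))) =
        Nat.card (ZMod (2 ^ m) × ZMod (2 ^ m)) := rfl
    rw [this, Nat.card_prod, Nat.card_zmod]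
  rw [h1, ← pow_add]
  have : (16 : ℕ) = 2 ^ 4 := by norm_num
  rw [this]
  exact pow_dvd_pow 2 (by omega)

include hM hm e hn hnC in
/-- The main step: there is a nonprincipal linear character with `P` in its kernel. -/
theorem exists_linear_trivial_on_sylow :
    ∃ ζ : IrrCharacter G, (∃ g, (ζ : G → ℂ) g ≠ 1) ∧
      ∀ u ∈ (P : Subgroup G), (ζ : G → ℂ) u = 1 := by
  classical
  letI : Fintype ↥(P : Subgroup G) := Fintype.ofFinite _
  letI : Fintype ↥(principalBlock M G) := Fintype.ofFinite _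
  have hm1 : 1 ≤ m := by omega
  have hPc := comm_of_equiv e
  have hcomm : ∀ a b : ↥(P : Subgroup G), a * b = b * a :=
    fun a b => Subtype.ext (hPc a a.2 b b.2)
  -- characters
  have hchar : ∀ i, IsCharacter ↥(P : Subgroup G) (fres M P i) :=
    fun i => isCharacter_restrict (isCharacter_of_isIrrCharacter i.1.2) (P : Subgroup G)
  -- degrees
  have hdeg : ∀ i : ↥(principalBlock M G), ∃ k : ℕ, 0 < k ∧ (i.1 : G → ℂ) 1 = k :=
    fun i => exists_pos_nat_apply_one i.1.2
  choose dn hdn0 hdn using hdeg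
  have hd : ∀ i, fres M P i 1 = (((dn i : ℤ) : ℤ) : ℂ) := by
    intro i
    show (i.1 : G → ℂ) ((1 : ↥(P : Subgroup G)) : G) = _
    rw [Subgroup.coe_one, hdn i, Int.cast_natCast]
  have hdpos : ∀ i, 0 < (dn i : ℤ) := fun i => by exact_mod_cast hdn0 i
  -- the principal character
  obtain ⟨o, ho⟩ : ∃ o : ↥(principalBlock M G), (o.1 : G → ℂ) = fun _ => 1 :=
    ⟨⟨⟨fun _ => 1, isIrrCharacter_one⟩, sameBlock_refl hM.2.1.ne_top _⟩, rfl⟩
  have ho' : fres M P o = fun _ => 1 := by
    funext u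
    show (o.1 : G → ℂ) (u : G) = 1
    rw [ho]
  -- the involution
  obtain ⟨x, hx⟩ := exists_sq_ne_one hm e
  have hx1 : (x : G) ≠ 1 := by
    intro h
    apply hx
    apply Subtype.ext
    rw [Subgroup.coe_mul, h, one_mul, Subgroup.coe_one]
  obtain ⟨k, hk1, hk2⟩ := exists_pow_involution P.2 x.2 hx1
  obtain ⟨z, hz⟩ : ∃ z : ↥(P : Subgroup G), z = x ^ k := ⟨_, rfl⟩
  have hzG : (z : G) = (x : G) ^ k := by rw [hz]; rfl
  have hz1 : z ≠ 1 := by
    intro h
    apply hk1
    rw [← hzG, h]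
    rfl
  have hzz : z * z = 1 := by
    apply Subtype.ext
    rw [Subgroup.coe_mul, hzG, hk2]
    rfl
  -- the character `l0`
  obtain ⟨l0, hl0, hl0V⟩ := exists_l0 hcomm ⟨x, hx⟩
  have hsq : ∀ w : ↥(P : Subgroup G), w * w = 1 → alpha P hn w * alpha P hn w = 1 := by
    intro w hw
    rw [← map_mul, hw, map_one]
  have h4d := four_d hM P hPc (l0 : ↥(P : Subgroup G) → ℂ) (isCharacter_of_isIrrCharacter l0.2)
    hl0V z hz1 hzz
  rw [finsum_block_eq_sum] at h4d
  have h4d' : ∑ i : ↥(principalBlock M G),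
      (classInner (fres M P i) (l0 : ↥(P : Subgroup G) → ℂ) -
        classInner (fres M P i) (fun _ => 1)) * (fres M P i z) ^ 2 / (fres M P i 1) = 0 := by
    rw [← h4d]
    apply Finset.sum_congr rfl
    intro i _
    rw [← coeff_eq (fres M P i) (l0 : ↥(P : Subgroup G) → ℂ) (isCharacter_of_isIrrCharacter l0.2)]
    rfl
  obtain ⟨i, hio, hi⟩ := exists_trivial_restriction hcomm (sixteen_dvd_card P hm e)
    (alpha_three P hm1 e hn hnC) (alpha_fpf P hm1 e hn hnC) hchar hd hdpos ho'
    (kerHyp_principal hM P hm e hn hnC) hz1 hl0 (hl0V z hzz) (hl0V _ (hsq z hzz))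
    (hl0V _ (hsq _ (hsq z hzz))) h4d'
  refine ⟨i.1, ?_, ?_⟩
  · by_contra hall
    push_neg at hall
    apply hio
    apply Subtype.ext
    apply Subtype.ext
    rw [ho]
    funext g
    exact hall g
  · intro u hu
    exact congrFun hi ⟨u, hu⟩

end Cfsg.Agent.H2.Hom2
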