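import Mathlib
import Cfsg.Prelude.Def_Solvable
import Cfsg.Agent.H1.Cores
import Cfsg.Agent.H2.BSUnique
import Cfsg.Agent.Lib.helper3.LocalM3
import Cfsg.Agent.H2.Hom2.A1
import Cfsg.Agent.H2.Hom2.A4
import Cfsg.Agent.H2.Hom2.G1

set_option autoImplicit false
set_option linter.style.haveILetI false
set_option linter.unusedSectionVars false
set_option linter.unusedVariables false

/-!
# Homocyclic Sylow 2-subgroups of rank two: Brauer's theorem
-/

namespace Cfsg.Agent.H2.Hom2

open Cfsg Cfsg.Agent.Lib.helper3.Irr Cfsg.Agent.H2.Homocyc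

universe u

/-- The Sylow `2`-subgroup is normal, by induction on the order. -/
theorem concl_all {m : ℕ} (hm : 2 ≤ m) (k : ℕ) :
    ∀ (G : Type u) [Group G] [Finite G], Nat.card G = k → Concl G m := by
  induction k using Nat.strong_induction_on with
  | _ k ih =>
    intro G _ _ hk P e hO
    haveI : Fact (Nat.Prime 2) := ⟨Nat.prime_two⟩
    have IH : ∀ (H : Type u) [Group H] [Finite H], Nat.card H < Nat.card G → Concl H m := by
      intro H _ _ hlt
      exact ih (Nat.card H) (hk ▸ hlt) H rfl
    by_cases hNC : Subgroup.normalizer ((P : Subgroup G) : Set G) ≤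
        Subgroup.centralizer ((P : Subgroup G) : Set G)
    · have htop : (P : Subgroup G) = ⊤ :=
        Cfsg.Agent.H2.BSUnique.sylow_eq_top_of_complement hO P
          (MonoidHom.transferSylow P hNC).ker inferInstance
          (MonoidHom.ker_transferSylow_isComplement' P hNC)
      rw [htop]
      infer_instance
    · obtain ⟨n, hn, hnC⟩ := SetLike.not_le_iff_exists.mp hNC
      obtain ⟨M, hM⟩ := Cfsg.Agent.Lib.helper3.LocalM.exists_isPModular 2 Nat.prime_two
      obtain ⟨ζ, hne, hP⟩ := exists_linear_trivial_on_sylow hM P hm e hn hnC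
      have h1 : (ζ : G → ℂ) 1 = 1 := hP 1 (one_mem _)
      exact normal_of_linear IH P e hO ζ (isCharacter_of_isIrrCharacter ζ.2) h1 hne hP

/-- Brauer's theorem on homocyclic Sylow `2`-subgroups of rank two. -/
theorem brauer_homocyclic {G : Type u} [Group G] [Finite G] (P : Sylow 2 G) (m : ℕ) (hm : 2 ≤ m)
    (e : (P : Subgroup G) ≃* Multiplicative (ZMod (2 ^ m) × ZMod (2 ^ m)))
    (hO : ∀ N : Subgroup G, N.Normal → Odd (Nat.card N) → N = ⊥) :
    (P : Subgroup G).Normal ∧ Subgroup.centralizer ((P : Subgroup G) : Set G) = (P : Subgroup G) ∧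
      ((P : Subgroup G).index = 1 ∨ (P : Subgroup G).index = 3) := by
  have hO' : Cfsg.pPrimeCore 2 G = ⊥ := by
    apply hO _ (Cfsg.Agent.H1.pPrimeCore_normal 2)
    exact Nat.coprime_two_right.mp (Cfsg.Agent.H1.pPrimeCore_coprime 2)
  have hn : (P : Subgroup G).Normal := concl_all hm (Nat.card G) G rfl P e hO'
  exact ⟨hn, endgame P m (by omega) e hO' hn⟩

end Cfsg.Agent.H2.Hom2
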